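import Groth.Agent.StMod.K894.PtFac
import Groth.Agent.Gerb.K893.PtInj
import Groth.Agent.AlgSt.K742.QC
import Groth.Agent.AlgSt.K742.QC2
import Groth.Agent.AlgSp.K604.LimFin
import Groth.Agent.S16810
import Groth.Agent.S12867
import Groth.Agent.S13017
import Groth.Agent.S12955

/-!
# The residual gerbe at a closed point
-/

set_option autoImplicit false
set_option linter.unusedVariables false
set_option linter.style.haveILetI false
set_option backward.isDefEq.respectTransparency false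
set_option backward.isDefEq.respectTransparency.types false

universe w' v' w v u

open CategoryTheory CategoryTheory.Limits AlgebraicGeometry Opposite StMod AlgSt AlgSp

namespace K894.ClosedGerbe

open K906 K906.SpGeo K907.Sec K894.SerreMono K894.AffMono K894.PtFac

variable {S : Scheme.{u}}

local notation "Alg" => IsAlgStack Scheme.fppfPrecoverage

theorem rep_mono {𝒜 : BasedCategory.{v, w} (Over S)} {ℬ : BasedCategory.{v', w'} (Over S)} {f : 𝒜 ⥤ᵇ ℬ}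
    {P Q : MorphismProperty (Sp S)} (hPQ : ∀ {X Y : Sp S} (a : X ⟶ Y), IsAlgSpace X → IsAlgSpace Y → P a → Q a)
    (h : AlgSt.RepByAlgSpWith P f) : AlgSt.RepByAlgSpWith Q f := by
  intro U y
  obtain ⟨F, e, he, hP⟩ := h U y
  exact ⟨F, e, he, hPQ _ F.property (IsAlgSpace.yon_obj U) hP⟩

/-- The residual gerbe at a closed point is a closed substack. -/
theorem isClosedImm {𝒳 : AlgSt.Cat S} (h𝒳 : Alg 𝒳) (hN : AlgSt.SmoothLocally (fun T => IsLocallyNoetherian T) 𝒳)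
    {ξ : AlgSt.Points 𝒳} (hξ : IsClosed ({ξ} : Set (AlgSt.Points 𝒳))) {Q : 𝒳.obj → Prop}
    (hQ : Gerb.IsResGerbe Scheme.fppfPrecoverage 𝒳 ξ Q) : AlgSt.IsClosedImm (AlgSt.subIncl 𝒳 Q) := by
  obtain ⟨Q', ⟨hc, hA, hi⟩, hr, hred⟩ := Groth.Agent.S12867.result h𝒳 {ξ} hξ
  have himm : AlgSt.IsImm (AlgSt.subIncl 𝒳 Q') :=
    rep_mono (fun a _ _ h => K610.OpenImm.repWith_isImmersion_of_closed h) hi
  obtain ⟨hN', -⟩ := Groth.Agent.S13017.result S _ _ hA h𝒳 _ himm hN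
  have hinj := K893.Pt.points_map_injective h𝒳.isStack.1 hc hA.isStack.1
  have hmap : ∀ z, AlgSt.Points.map (AlgSt.subIncl 𝒳 Q') z = ξ := fun z => by
    have : AlgSt.Points.map (AlgSt.subIncl 𝒳 Q') z ∈ ({ξ} : Set _) := hr ▸ Set.mem_range_self z
    exact this
  have hne : Nonempty (AlgSt.Points (AlgSt.fullSub 𝒳 Q')) := by
    have : ξ ∈ Set.range (AlgSt.Points.map (AlgSt.subIncl 𝒳 Q')) := by
      rw [hr]
      rfl
    exact ⟨this.choose⟩
  have hss : Subsingleton (AlgSt.Points (AlgSt.fullSub 𝒳 Q')) := ⟨fun a b => hinj ((hmap a).trans (hmap b).symm)⟩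
  have hQ' : Gerb.IsResGerbe Scheme.fppfPrecoverage 𝒳 ξ Q' := ⟨hc, hA, hred, hN', hne, hss, hmap⟩
  have hm : AlgSt.IsMono (AlgSt.subIncl 𝒳 Q') := rep_mono (fun a _ _ h => K598.RepKit.mono_of_repWith_isClosedImmersion h) hi
  obtain ⟨Q₀, -, h0⟩ := Groth.Agent.S16810.result S 𝒳 h𝒳 ξ _ hA hred hne hss _ hm hmap
  have e : Q = Q' := funext fun x => propext ((h0 Q hQ x).trans (h0 Q' hQ' x).symm)
  rw [e]
  exact hi

/-- A quasi-compact stack is quasi-compact over an affine base. -/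
theorem isQuasiCompactMor_of_isQuasiCompact [IsAffine S] {𝒢 : AlgSt.Cat S} (h𝒢 : Alg 𝒢) (hq : AlgSt.IsQuasiCompact 𝒢)
    (σ : 𝒢 ⥤ᵇ ofSch (Over.mk (𝟙 S))) : AlgSt.IsQuasiCompactMor Scheme.fppfPrecoverage σ := by
  obtain ⟨U, x, hU, -, hxs⟩ := hq
  have h1 : Alg (ofSch U) := K740.SpDM.isAlgStack_ofSp (IsAlgSpace.yon_obj U)
  have h2 : Alg (ofSch (Over.mk (𝟙 S))) := K740.SpDM.isAlgStack_ofSp (IsAlgSpace.yon_obj _)
  have h3 : Alg (FibCat.overCat U) := K742.QC.isAlgStack_overCat U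
  have hs : AlgSt.IsSurjective x := K742.QC.isSurjective_of_repByAlgSpWith h3 h𝒢 hxs
  have he : BasedFunctor.comp (toOverCat U) (BasedFunctor.comp x σ) = ofSpMap ((yon S).map (Over.mkIdTerminal.from U)) :=
    K908.ToBase.functor_eq _ _
  have hqc : AlgSp.IsQuasiCompactMor ((yon S).map (Over.mkIdTerminal.from U)) := by
    refine K596.QC.isQuasiCompactMor_of_repWith ((repWith_yon_map_iff _ _).2 ?_)
    have h2 : IsAffine (Over.mk (𝟙 S)).left := ‹IsAffine S›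
    infer_instance
  have hrep : AlgSt.RepByAlgSpWith AlgSp.IsQuasiCompactMor (ofSpMap ((yon S).map (Over.mkIdTerminal.from U))) := by
    refine K740.SpDM.repByAlgSpWith_ofSpMap _ fun V η => ?_
    have sq := IsPullback.of_hasPullback η ((yon S).map (Over.mkIdTerminal.from U))
    refine ⟨_, _, _, K741.isAlgSpace_bc (IsAlgSpace.yon_obj V) (IsAlgSpace.yon_obj U) (IsAlgSpace.yon_obj _) sq, sq, ?_⟩
    intro Y Y' hY hYc g fst snd sq'
    exact hqc hY hYc (g ≫ η) (fst ≫ pullback.snd η _) snd (sq'.paste_horiz sq.flip)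
  have h4 : AlgSt.IsQuasiCompactMor Scheme.fppfPrecoverage (BasedFunctor.comp (toOverCat U) (BasedFunctor.comp x σ)) := by
    rw [he]
    exact K742.QC.isQuasiCompactMor_of_repByAlgSpWith h1 h2 _ hrep
  have h5 : AlgSt.IsSurjective (toOverCat U) :=
    (K735.Pts.map_bijective_of_isEquivOver (K735.Rep.isEquivOver_toOverCat U)).2
  have h6 : AlgSt.IsQuasiCompactMor Scheme.fppfPrecoverage (BasedFunctor.comp x σ) :=
    K742.QC.isQuasiCompactMor_of_isSurjective_of_triangle h1 h3 h2 (toOverCat U) _ (BasedFunctor.comp x σ)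
      (Iso.refl _) h5 h4
  exact K742.QC.isQuasiCompactMor_of_isSurjective_of_triangle h3 h𝒢 h2 x _ σ (Iso.refl _) hs h6

/-- The residual gerbe at a closed point of a stack cohomologically affine over a quasi-separated space. -/
theorem isCohAffine_resGerbe [IsAffine S] {𝒳 : AlgSt.Cat S} (h𝒳 : Alg 𝒳) (M : Space S) (hM : IsQuasiSeparatedSp M.obj)
    (π : 𝒳 ⥤ᵇ ofSp M.obj) (hqc : AlgSt.IsQuasiCompactMor Scheme.fppfPrecoverage π) (hqs : AlgSt.IsQuasiSeparatedMor π)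
    (h : IsCohAffine π) (hN : AlgSt.SmoothLocally (fun T => IsLocallyNoetherian T) 𝒳)
    {ξ : AlgSt.Points 𝒳} (hξ : IsClosed ({ξ} : Set (AlgSt.Points 𝒳))) {Q : 𝒳.obj → Prop}
    (hQ : Gerb.IsResGerbe Scheme.fppfPrecoverage 𝒳 ξ Q) (σ : AlgSt.fullSub 𝒳 Q ⥤ᵇ ofSch (Over.mk (𝟙 S))) :
    IsCohAffine σ ∧ AlgSt.IsQuasiCompactMor Scheme.fppfPrecoverage σ := by
  have hi : AlgSt.IsClosedImm (AlgSt.subIncl 𝒳 Q) := isClosedImm h𝒳 hN hξ hQ
  obtain ⟨-, h𝒢, hred, -, hne, hss, hmap⟩ := hQ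
  have hMs : Alg (ofSp M.obj) := K740.SpDM.isAlgStack_ofSp M.property
  have haff : AlgSt.RepByAlgSpWith AlgSp.IsAffineMor (AlgSt.subIncl 𝒳 Q) :=
    rep_mono (fun a _ _ h => K604.LimFin.isAffineMor_of_closed h) hi
  have hqci : AlgSt.IsQuasiCompactMor Scheme.fppfPrecoverage (AlgSt.subIncl 𝒳 Q) :=
    K742.QC.isQuasiCompactMor_of_repByAlgSpWith h𝒢 h𝒳 _ (repByAlgSpWith_qc_of_affine haff)
  have hqsi : AlgSt.IsQuasiSeparatedMor (AlgSt.subIncl 𝒳 Q) :=
    (Groth.Agent.S12945.result S _ _ h𝒢 h𝒳 _ (K738.repByAlgSp1_of hi)).2 (rep_mono (fun a _ _ h => by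
      have : Mono a := K598.RepKit.mono_of_repWith_isClosedImmersion h
      exact K739.Props.qs_of_sep (K745.MonoLqf.isSeparatedMor_of_mono a)) hi)
  have h1 := K742.QC.isQuasiCompactMor_comp h𝒢 h𝒳 hMs _ π hqci hqc
  have h2 := Groth.Agent.S12955.result S _ _ _ h𝒢 h𝒳 hMs _ π hqsi hqs
  have := h𝒳.isStack.1
  have := h𝒢.isStack.1
  have h3 : IsCohAffine (BasedFunctor.comp (AlgSt.subIncl 𝒳 Q) π) :=
    K908.AffPush.isCohAffine_comp _ (K908.Aff.isAff_of_repByAlgSpWith h𝒳.isStack.1 _ haff) π h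
  have hex : K906.Exact (AlgSt.fullSub 𝒳 Q) := exact_of_point h𝒢 hred M hM _ h1 h2 h3
    (K735.PtsSp.ptsEquiv M.obj (AlgSt.Points.map π ξ)) fun z => by
      rw [K735.Pts.map_comp, hmap z]
  refine ⟨isCohAffine_of_exact h𝒢.isStack.1 hex σ, isQuasiCompactMor_of_isQuasiCompact h𝒢 ?_ σ⟩
  rw [K742.QC.isQuasiCompact_iff h𝒢]
  infer_instance

end K894.ClosedGerbe
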