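import Groth.Agent.StMod.K894.SerreMono
import Groth.Agent.StMod.K908.ToBase
import Groth.Agent.Gerb.K894.IsoSp
import Groth.Agent.AlgSt.K743.DiagBC
import Groth.Agent.AlgSt.K742.ImmLN
import Groth.Agent.AlgSp.K605.LimImg
import Groth.Agent.AlgSp.K605.LfpLim
import Groth.Agent.AlgSp.K594.AlgCover
import Groth.Agent.AlgSt.K734.RepSp2
import Groth.Agent.AlgSt.K734.Props
import Groth.Agent.AlgSp.K628.Props

/-!
# Affineness of monomorphisms from a cohomologically affine stack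

`affine_of_isBC`: `i : 𝒢 ⥤ᵇ 𝒳` a monomorphism of algebraic stacks, `𝒳` with affine diagonal over `S`, `𝒢` quasi-compact and
cohomologically affine over `S`, `U` an affine scheme with a map to `𝒳`, factoring through an affine étale `E ⟶ S`; then
`U ×_𝒳 𝒢` is an affine scheme.
-/

set_option autoImplicit false
set_option linter.unusedVariables false
set_option linter.style.haveILetI false
set_option backward.isDefEq.respectTransparency false
set_option backward.isDefEq.respectTransparency.types false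

universe w' v' w v u

open CategoryTheory CategoryTheory.Limits AlgebraicGeometry Opposite StMod AlgSt AlgSp

namespace K894.AffMono

open K906 K906.SpGeo K907.Sec K894.SerreMono

variable {S : Scheme.{u}}

section Term

variable {𝒜 : BasedCategory.{v, w} (Over S)} {ℬ : BasedCategory.{v', w'} (Over S)}

/-- The functor to the fibre over a terminal object. -/
noncomputable def toTerm (π : 𝒜 ⥤ᵇ ℬ) (η : ℬ.obj) (hη : ∀ b : ℬ.obj, ∃! f : b ⟶ η, True) :
    𝒜 ⥤ᵇ K906.fibCat π η where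
  toFunctor :=
    { obj := fun x => ⟨x, (hη (π.obj x)).choose⟩
      map := fun {x y} f => FObj.mkHom f ((hη _).unique trivial trivial)
      map_id := fun x => FObj.hom_ext rfl
      map_comp := fun f g => FObj.hom_ext rfl }
  w := rfl

theorem isAff_toTerm (π : 𝒜 ⥤ᵇ ℬ) (η : ℬ.obj) (hη : ∀ b : ℬ.obj, ∃! f : b ⟶ η, True) :
    K908.Aff.IsAff (toTerm π η hη) := by
  intro ξ hξ
  let α : (toTerm π η hη).obj (FObj.pt ξ) ⟶ ξ := FObj.mkHom (𝟙 (FObj.pt ξ)) ((hη _).unique trivial trivial)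
  refine ⟨FObj.pt ξ, α, hξ, ?_⟩
  intro θ β
  refine ⟨FObj.Hom.hom β, ?_, ?_⟩
  · exact FObj.hom_ext (Category.comp_id _)
  · intro χ hχ
    have := congrArg FObj.Hom.hom hχ
    refine Eq.trans ?_ this
    exact (Category.comp_id _).symm

theorem exact_of_terminal (h𝒜 : FibCat.IsFibGrpd 𝒜.p) (π : 𝒜 ⥤ᵇ ℬ) (η : ℬ.obj)
    (hη : ∀ b : ℬ.obj, ∃! f : b ⟶ η, True) (h : K906.Exact (K906.fibCat π η)) : K906.Exact 𝒜 :=
  AffFp.exact_of_isAff (isFibGrpd_fibCat h𝒜) h𝒜 (isAff_toTerm π η hη) h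

end Term

/-- The structure functor. -/
noncomputable def strS (𝒵 : BasedCategory.{v, w} (Over S)) : 𝒵 ⥤ᵇ ofSch (Over.mk (𝟙 S)) where
  toFunctor :=
    { obj := fun z => ⟨𝒵.p.obj z, ⟨Over.homMk (𝒵.p.obj z).hom⟩⟩
      map := fun {z z'} f => ⟨𝒵.p.map f, congrArg ULift.up (Over.OverMorphism.ext (Over.w (𝒵.p.map f)))⟩
      map_id := fun z => Stk.EltObj.hom_ext (𝒵.p.map_id z)
      map_comp := fun f g => Stk.EltObj.hom_ext (𝒵.p.map_comp f g) }
  w := rfl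

theorem eta0_terminal (Z : Over S) (b : (ofSch Z).obj) : ∃! f : b ⟶ eta0 Z, True := by
  obtain ⟨f⟩ := exists_to_eta0 b
  exact ⟨f, trivial, fun g _ => to_eta0_ext g f⟩

section Main

variable [QuasiSeparatedSpace S] {𝒢 𝒳 : AlgSt.Cat S}

/-- `U ×_S 𝒢`: exactness. -/
theorem exact_prod (h𝒢 : IsAlgStack Scheme.fppfPrecoverage 𝒢) {σ : 𝒢 ⥤ᵇ ofSch (Over.mk (𝟙 S))} (hσ : IsCohAffine σ)
    {U : Over S} (hU : IsAffine U.left) (E : EtOver ((yon S).obj (Over.mk (𝟙 S)))) (hE : IsAffine E.obj.left.left)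
    (k : U ⟶ E.obj.left) (g : ofSch U ⥤ᵇ ofSch (Over.mk (𝟙 S))) : K906.Exact (FibCat.fp g σ) := by
  have hg1 : FibCat.IsFibGrpd (ofSch U).p := K907.FibTerm.isFibGrpd_ofSp
  have hg2 : FibCat.IsFibGrpd (ofSch (Over.mk (𝟙 S))).p := K907.FibTerm.isFibGrpd_ofSp
  have h1 : K906.Exact (K906.fibCat σ (etaOf E)) :=
    ExactE.exact_fibCat_of_qs h𝒢 (K594.AlgCover.isQuasiSeparatedSp_base S) σ hσ E hE
  have hbase : (g.obj (eta0 U)).base = U := g.w_obj (eta0 U)
  have hη' : IsAffine (sch (ofSch (Over.mk (𝟙 S))) (etaOf E)) := hE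
  let κ : g.obj (eta0 U) ⟶ etaOf E := homMk (eqToHom hbase ≫ k) (by
    obtain ⟨a, ha⟩ := (yon S).map_surjective ((yon S).map (eqToHom hbase ≫ k) ≫ toMap (etaOf E))
    obtain ⟨b, hb⟩ := (yon S).map_surjective (toMap (g.obj (eta0 U)))
    rw [← ha, ← hb]
    exact congrArg _ (Over.mkIdTerminal.hom_ext a b))
  have h2 := AffFp.exact_fibCat_fpFst σ g h𝒢.isStack.1 hg2 hg1 κ hU hE h1
  exact exact_of_terminal (K735.Fp.isFibGrpd_fp hg1 h𝒢.isStack.1 hg2 g σ) (FibCat.fpFst g σ) (eta0 U) (eta0_terminal U) h2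

local notation "Alg" => IsAlgStack Scheme.fppfPrecoverage

omit [QuasiSeparatedSpace S] in
theorem repByAlgSpWith_qc_of_affine {𝒜 : BasedCategory.{v, w} (Over S)} {ℬ : BasedCategory.{v', w'} (Over S)}
    {f : 𝒜 ⥤ᵇ ℬ} (h : AlgSt.RepByAlgSpWith AlgSp.IsAffineMor f) : AlgSt.RepByAlgSpWith AlgSp.IsQuasiCompactMor f := by
  intro U y
  obtain ⟨F, e, he, hP⟩ := h U y
  exact ⟨F, e, he, K605.LimImg.isQuasiCompactMor_of_isAffineMor F.property (IsAlgSpace.yon_obj U) hP⟩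

/-- `U ×_𝒳 𝒢` is an affine scheme. -/
theorem affine_of_isBC (h𝒢 : IsAlgStack Scheme.fppfPrecoverage 𝒢) (h𝒳 : IsAlgStack Scheme.fppfPrecoverage 𝒳)
    (hΔ : AlgSt.RepByAlgSpWith AlgSp.IsAffineMor (FibCat.diag (FibCat.toSelf 𝒳))) (i : 𝒢 ⥤ᵇ 𝒳) (hi : AlgSt.IsMono i)
    {σ : 𝒢 ⥤ᵇ ofSch (Over.mk (𝟙 S))} (hqc : AlgSt.IsQuasiCompactMor Scheme.fppfPrecoverage σ) (hσ : IsCohAffine σ)
    {U : Over S} (hU : IsAffine U.left) (E : EtOver ((yon S).obj (Over.mk (𝟙 S)))) (hE : IsAffine E.obj.left.left)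
    (k : U ⟶ E.obj.left) (y : ofSch U ⥤ᵇ 𝒳) {V : Sp S} (hV : IsAlgSpace V) (a : V ⟶ (yon S).obj U)
    (h : K736.Fib.IsBC y i a.hom) : ∃ T : Over S, IsAffine T.left ∧ Nonempty (V ≅ (yon S).obj T) := by
  have hm : Mono a := (K736.Rep.prop_of_isBC K736.Cover.stabBC_mono.isoInv hi h).2
  let t := strS 𝒳
  let iso : BasedFunctor.comp (FibCat.fpFst y i) (BasedFunctor.comp y t) ≅
      BasedFunctor.comp (FibCat.fpSnd y i) (BasedFunctor.comp i t) := K743.BC.whiskerRightIso (FibCat.fpIso y i) t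
  have hdiag : AlgSt.RepByAlgSpWith AlgSp.IsAffineMor (FibCat.diag t) :=
    K894.IsoSp.repByAlgSpWith_diag_ofSp h𝒳.isStack.1 t hΔ
  have hcmp : AlgSt.RepByAlgSpWith AlgSp.IsAffineMor (FibCat.fpLift (FibCat.fpFst y i) (FibCat.fpSnd y i) iso) :=
    K743.DiagBC.repByAlgSpWith_cmp y i t iso (fun x => rfl) hdiag
  obtain rfl : BasedFunctor.comp i t = σ := K908.ToBase.functor_eq _ _
  obtain ⟨e, he, hei⟩ := K736.Fib.isBC_iff.1 h
  have hc := (K736.Prod.algRep_comp_equiv_iff (P := AlgSp.IsAffineMor) he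
    (f := FibCat.fpLift (FibCat.fpFst y i) (FibCat.fpSnd y i) iso)).2 hcmp
  have hU1 : Alg (ofSch U) := K740.SpDM.isAlgStack_ofSp (IsAlgSpace.yon_obj U)
  have hS1 : Alg (ofSch (Over.mk (𝟙 S))) := K740.SpDM.isAlgStack_ofSp (IsAlgSpace.yon_obj _)
  have hV1 : Alg (ofSp V) := K740.SpDM.isAlgStack_ofSp hV
  have hP1 : Alg (FibCat.fp (BasedFunctor.comp y t) (BasedFunctor.comp i t)) := K742.QC.isAlgStack_fp hU1 h𝒢 hS1 _ _
  have hex0 := exact_prod h𝒢 hσ hU E hE k (BasedFunctor.comp y t)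
  have hex : K906.Exact (ofSp V) := AffFp.exact_of_isAff hP1.isStack.1 hV1.isStack.1
    (K908.Aff.isAff_of_repByAlgSpWith hP1.isStack.1 _ hc) hex0
  have hUc : CompactSpace U.left := inferInstance
  have hUq : AlgSt.IsQuasiCompact (ofSch U) :=
    (K742.QC.isQuasiCompact_iff_of_rep (IsAlgSpace.yon_obj U) hU1 (BasedFunctor.id _) K735.Fib.isEquivOver_id).2
      (K596.QC.isQuasiCompactSp_yon U)
  have hPq : AlgSt.IsQuasiCompact (FibCat.fp (BasedFunctor.comp y t) (BasedFunctor.comp i t)) := hqc _ hU1 hUq _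
  have hVq : AlgSt.IsQuasiCompact (ofSp V) := K742.LN.isQuasiCompact_of_qcMor hV1 hP1 _
    (K742.QC.isQuasiCompactMor_of_repByAlgSpWith hV1 hP1 _ (repByAlgSpWith_qc_of_affine hc)) hPq
  have hVq' : IsQuasiCompactSp V := (K742.QC.isQuasiCompact_iff_of_rep hV hV1 (BasedFunctor.id _) K735.Fib.isEquivOver_id).1 hVq
  exact exists_affine_of_exact hV hU a hVq' hex

/-- `i` is affine. -/
theorem repByAlgSpWith_isAffineMor (h𝒢 : IsAlgStack Scheme.fppfPrecoverage 𝒢) (h𝒳 : IsAlgStack Scheme.fppfPrecoverage 𝒳)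
    (hΔ : AlgSt.RepByAlgSpWith AlgSp.IsAffineMor (FibCat.diag (FibCat.toSelf 𝒳))) (i : 𝒢 ⥤ᵇ 𝒳) (hi : AlgSt.IsMono i)
    {σ : 𝒢 ⥤ᵇ ofSch (Over.mk (𝟙 S))} (hqc : AlgSt.IsQuasiCompactMor Scheme.fppfPrecoverage σ) (hσ : IsCohAffine σ) :
    AlgSt.RepByAlgSpWith AlgSp.IsAffineMor i := by
  rw [K736.Rep.algRepWith_iff]
  intro U y
  obtain ⟨V, a, ha⟩ := (K736.Rep.algRep1_iff i).1 (K738.repByAlgSp1_of hi) U y
  refine ⟨V, a, ha, ?_⟩
  have key : ∀ x : U.left, ∃ (S' : S.Opens) (U' : U.left.Opens), IsAffineOpen S' ∧ IsAffineOpen U' ∧ x ∈ U' ∧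
      U' ≤ U.hom ⁻¹ᵁ S' := by
    intro x
    obtain ⟨S', hS', hxS, -⟩ := TopologicalSpace.Opens.isBasis_iff_nbhd.1 S.isBasis_affineOpens
      (x := U.hom x) (U := ⊤) trivial
    obtain ⟨U', hU', hxU, hle⟩ := TopologicalSpace.Opens.isBasis_iff_nbhd.1 U.left.isBasis_affineOpens (x := x)
      (U := U.hom ⁻¹ᵁ S') hxS
    exact ⟨S', U', hS', hU', hxU, hle⟩
  choose S' U' hS' hU' hxU hle using key
  let T : U.left → Over S := fun x => Over.mk ((U' x).ι ≫ U.hom)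
  let t : ∀ x, T x ⟶ U := fun x => Over.homMk (U' x).ι rfl
  have hcov : AlgSp.IsFppfCover (fun x => (yon S).obj (T x)) (fun x => (yon S).map (t x)) := by
    refine K734.Rep.isFppfCover_family T t (fun x => ⟨?_, ?_⟩) (fun x => ⟨x, ⟨x, hxU x⟩, rfl⟩)
    · change Flat (U' x).ι
      infer_instance
    · change LocallyOfFinitePresentation (U' x).ι
      infer_instance
  have hloc : AlgSp.IsLocalOnBase AlgSp.IsFppfCover (AlgSp.IsAffineMor (S := S)) :=
    K734.Rep.isLocalOnBase_of_fpqc K628.Props.isLocalOnBase_isAffineMor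
  have hT : ∀ x, IsAlgSpace ((yon S).obj (T x)) := fun x => IsAlgSpace.yon_obj _
  refine (hloc (fun x => (yon S).obj (T x)) (fun x => (yon S).map (t x)) (IsAlgSpace.yon_obj U) hT hcov a V.property
    (fun x => pullback a ((yon S).map (t x))) (fun x => pullback.snd _ _) (fun x => pullback.fst _ _)
    (fun x => K741.isAlgSpace_bc V.property (hT x) (IsAlgSpace.yon_obj U) (IsPullback.of_hasPullback _ _))
    (fun x => IsPullback.of_hasPullback _ _)).2 fun x => ?_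
  let E₀ : Over S := Over.mk (S' x).ι
  have hE₀ : RepWith @Etale ((yon S).map (Over.mkIdTerminal.from E₀)) := (repWith_yon_map_iff @Etale _).2 (by
    have h1 : (Over.mkIdTerminal.from E₀).left = (S' x).ι := by
      have := Over.w (Over.mkIdTerminal.from E₀)
      exact (Category.comp_id _).symm.trans this
    rw [h1]
    infer_instance)
  let E : EtOver ((yon S).obj (Over.mk (𝟙 S))) := EtOver.mk _ hE₀
  have hE : IsAffine E.obj.left.left := hS' x
  have hr : Set.range ((U' x).ι ≫ U.hom) ⊆ Set.range (S' x).ι := by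
    rw [Scheme.Opens.range_ι]
    rintro _ ⟨z, rfl⟩
    exact hle x z.2
  let k : T x ⟶ E.obj.left := Over.homMk (IsOpenImmersion.lift (S' x).ι ((U' x).ι ≫ U.hom) hr)
    (IsOpenImmersion.lift_fac _ _ _)
  have hUx : IsAffine (T x).left := hU' x
  obtain ⟨W, hW, ⟨φ⟩⟩ := affine_of_isBC h𝒢 h𝒳 hΔ i hi hqc hσ hUx E hE k _
    (K741.isAlgSpace_bc V.property (hT x) (IsAlgSpace.yon_obj U) (IsPullback.of_hasPullback a ((yon S).map (t x))))
    (pullback.snd a ((yon S).map (t x)))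
    (K736.Rep.of_isPullback ha (IsPullback.of_hasPullback a ((yon S).map (t x))))
  obtain ⟨ψ, hψ⟩ := (yon S).map_surjective (φ.inv ≫ pullback.snd a ((yon S).map (t x)))
  have h1 : AlgSp.IsAffineMor ((yon S).map ψ) := K605.LfpLim.isAffineMor_yon_map ψ
  have h2 : pullback.snd a ((yon S).map (t x)) = φ.hom ≫ (yon S).map ψ := by
    rw [hψ, Iso.hom_inv_id_assoc]
  rw [h2]
  exact K605.LimImg.isAffineMor_of_isPullback h1
    (IsPullback.of_horiz_isIso ⟨by simp⟩ : IsPullback φ.hom (φ.hom ≫ (yon S).map ψ) ((yon S).map ψ) (𝟙 _))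

end Main

end K894.AffMono
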