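import Groth.Agent.IntSh.K877.ChowDim
import Groth.Agent.IntSh.K274.FibDim
import Groth.Agent.EGA43.K127.RtdChev
import Groth.Agent.EGA43.K126.QuasiSec
import Groth.Agent.Sga4h.BidRed538Geo
import Groth.Agent.AlgSp.K616.DimInv
import Groth.Agent.S2768

/-!
# Dimension theory of a smooth groupoid over a field: the scheme level core

`DimCore.dim_lt`: `V` locally of finite type over a field, `s, t : R ⟶ V` smooth, such that the image of `R` in `V × V` is the
relation `c u = c v`, the relative dimension of `s` depends on `t` only and the dimension of the fibres of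
`(s, t)` depends on `c (s w)` only (the dimension of the stabilizer).  If `c ⁻¹ {x₁}` is closed and every point over `x₁` has
generizations in every class then the dimension of the stabilizer at `x₁` is strictly bigger than at every other class.
-/

set_option autoImplicit false
universe u

open AlgebraicGeometry CategoryTheory CategoryTheory.Limits TopologicalSpace Topology

namespace K894.DimCore

open Groth.Agent Groth.Agent.CycB.RelDim Groth.Agent.IntSh.K877.ChowDim

variable {X Y Z : Scheme.{u}}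

/-- the local dimension of the fibres of a smooth morphism is locally constant. -/
theorem fibreDimAt_eq_of_smooth (f : X ⟶ Y) [Smooth f] {x x' : X} (h : x' ⤳ x) :
    FlatMor.fibreDimAt f x' = FlatMor.fibreDimAt f x := by
  obtain ⟨n, V, hx, hV⟩ := Sga4h.BidRed538Geo.exists_relDim f x
  have key : ∀ y : X, y ∈ V → FlatMor.fibreDimAt f y = n := by
    intro y hy
    have h2 := @S2768.result n _ _ (V.ι ≫ f) hV ⟨y, hy⟩
    have h3 := K616.DimInv.fibreDimAt_comp_of_etale V.ι f ⟨y, hy⟩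
    rw [← h2, h3]
    rfl
  rw [key x hx, key x' (h.mem_open V.isOpen hx)]

/-- a generization in the fibre computing the local dimension. -/
theorem exists_nrtd_eq (f : X ⟶ Y) [LocallyOfFiniteType f] (x : X) :
    ∃ z : X, z ⤳ x ∧ f z = f x ∧ FlatMor.fibreDimAt f x = nrtd f z := by
  obtain ⟨z, h1, h2, -, n, hn, hn'⟩ := Ega4fib.H172.FibDimBC.exists_fibGeneric_rtd_eq f x
  refine ⟨z, h1, h2, ?_⟩
  rw [hn', nrtd, hn]
  simp

theorem nrtd_le (f : X ⟶ Y) [LocallyOfFiniteType f] {x z : X} (h : z ⤳ x) (hf : f z = f x) :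
    (nrtd f z : WithBot ℕ∞) ≤ FlatMor.fibreDimAt f x := by
  obtain ⟨m, hm, hm'⟩ := VarietyA.LocDim.le_fibreDimAt f x z h hf
  rw [nrtd, hm]
  simpa using hm'

/-- semicontinuity of the local dimension of the fibres. -/
theorem fibreDimAt_le_of_specializes (f : X ⟶ Y) [LocallyOfFiniteType f] {x x' : X} (h : x' ⤳ x) :
    FlatMor.fibreDimAt f x' ≤ FlatMor.fibreDimAt f x := by
  obtain ⟨z, h1, h2, h3⟩ := exists_nrtd_eq f x'
  obtain ⟨z', h4, h5, h6, h7⟩ := K127.RtdChev.exists_rtd_ge f (h1.trans h)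
  rw [h3]
  refine le_trans ?_ (nrtd_le f h5 h6)
  rw [← cast_nrtd, ← cast_nrtd] at h7
  exact_mod_cast h7

theorem nrtd_le_of_isPullback {P : Scheme.{u}} {p : P ⟶ X} {q : P ⟶ Y} {f : X ⟶ Z} {g : Y ⟶ Z}
    [LocallyOfFiniteType f] (h : IsPullback p q f g) (t : P) : nrtd q t ≤ nrtd f (p t) := by
  have hq : LocallyOfFiniteType q := MorphismProperty.of_isPullback h inferInstance
  have h1 := K274.FibDim.rtd_le_of_isPullback h t
  rw [← cast_nrtd, ← cast_nrtd] at h1
  exact_mod_cast h1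

/-- a closed point has residue transcendence degree zero. -/
theorem nrtd_eq_zero_of_isClosed (f : X ⟶ Y) [LocallyOfFiniteType f] (x : X) (hx : IsClosed ({x} : Set X)) :
    nrtd f x = 0 := by
  rw [nrtd, K126.QuasiSec.rtd_eq_zero_of_closed_in_fibre f x fun x' _ h => ?_]
  · simp
  · have h1 := h.mem_closure
    rw [hx.closure_eq] at h1
    exact h1

/-- the main estimate. -/
theorem dim_lt {κ : Type u} [Field κ] {V R : Scheme.{u}} (q : V ⟶ Spec (CommRingCat.of κ)) [LocallyOfFiniteType q]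
    (s t : R ⟶ V) [Smooth s] [Smooth t] (hst : s ≫ q = t ≫ q)
    {Y : Type*} (c : V → Y) (hR : ∀ u v : V, c u = c v ↔ ∃ w : R, s w = u ∧ t w = v)
    (hr : ∀ w w' : R, t w = t w' → FlatMor.fibreDimAt s w = FlatMor.fibreDimAt s w')
    (D : Y → WithBot ℕ∞) (hD : ∀ w : R, FlatMor.fibreDimAt (pullback.lift s t hst : R ⟶ pullback q q) w = D (c (s w)))
    (u₁ u₂ : V) (hne : c u₂ ≠ c u₁) (hcl : IsClosed (c ⁻¹' {c u₁}))
    (hgen : ∀ u v : V, c v = c u₁ → ∃ u' : V, u' ⤳ v ∧ c u' = c u) : D (c u₂) < D (c u₁) := by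
  let f : R ⟶ pullback q q := pullback.lift s t hst
  have hf1 : f ≫ pullback.fst q q = s := pullback.lift_fst _ _ _
  have hf2 : f ≫ pullback.snd q q = t := pullback.lift_snd _ _ _
  have hf1' : ∀ w, pullback.fst q q (f w) = s w := fun w => congr($hf1 w)
  have hf2' : ∀ w, pullback.snd q q (f w) = t w := fun w => congr($hf2 w)
  have hlf : LocallyOfFiniteType f := by
    have : LocallyOfFiniteType (f ≫ pullback.fst q q) := by rw [hf1]; infer_instance
    exact locallyOfFiniteType_of_comp f (pullback.fst q q)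
  have hc : ∀ w : R, c (s w) = c (t w) := fun w => (hR _ _).2 ⟨w, rfl, rfl⟩
  -- the two counts of the transcendence degree of a point of `R`
  have e1 : ∀ w : R, nrtd (s ≫ q) w = nrtd q (s w) + nrtd s w := fun w => nrtd_comp s q w
  have e2 : ∀ w : R, nrtd (s ≫ q) w = nrtd q (s w) + nrtd (pullback.fst q q) (f w) + nrtd f w := by
    intro w
    have h1 : nrtd (s ≫ q) w = nrtd (f ≫ (pullback.fst q q ≫ q)) w := by rw [← Category.assoc, hf1]
    rw [h1, nrtd_comp, nrtd_comp, hf1']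
  have e3 : ∀ w : R, nrtd (s ≫ q) w = nrtd q (t w) + nrtd (pullback.snd q q) (f w) + nrtd f w := by
    intro w
    have h1 : nrtd (s ≫ q) w = nrtd (f ≫ (pullback.snd q q ≫ q)) w := by
      rw [← Category.assoc, hf2, hst]
    rw [h1, nrtd_comp, nrtd_comp, hf2']
  have e4 : ∀ w : R, nrtd (pullback.fst q q) (f w) ≤ nrtd q (t w) := by
    intro w
    have h1 := nrtd_le_of_isPullback (IsPullback.of_hasPullback q q).flip (f w)
    rwa [hf2'] at h1
  -- (a)
  obtain ⟨w₀, hw₀, -⟩ := (hR u₁ u₁).1 rfl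
  obtain ⟨w, hww₀, hsw, hn⟩ := exists_nrtd_eq s w₀
  set n := nrtd s w with hn_def
  set v₁ := t w with hv₁
  have hnw : FlatMor.fibreDimAt s w = n := (fibreDimAt_eq_of_smooth s hww₀).trans hn
  have hcv₁ : c v₁ = c u₁ := by rw [hv₁, ← hc, hsw, hw₀]
  have ha : n ≤ nrtd q v₁ + nrtd f w := by
    have h1 := e1 w
    have h2 := e2 w
    have h3 := e4 w
    rw [← hv₁] at h3
    omega
  have ha' : (nrtd f w : WithBot ℕ∞) ≤ D (c u₁) := by
    have h1 := nrtd_le f (specializes_rfl : w ⤳ w) rfl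
    rwa [hD w, hsw, hw₀] at h1
  -- (b)
  have hJ : JacobsonSpace V := LocallyOfFiniteType.jacobsonSpace q
  obtain ⟨u₂', ⟨h2a, h2b⟩, h2c⟩ := nonempty_inter_closedPoints (Z := closure {u₂} ∩ (c ⁻¹' {c u₁})ᶜ)
    ⟨u₂, subset_closure rfl, hne⟩ (isClosed_closure.isLocallyClosed.inter hcl.isOpen_compl.isLocallyClosed)
  have hsp : u₂ ⤳ u₂' := specializes_iff_mem_closure.2 h2a
  have h2d : c u₂' ≠ c u₁ := h2b
  have h0 : nrtd q u₂' = 0 := nrtd_eq_zero_of_isClosed q u₂' h2c
  have hsemi : D (c u₂) ≤ D (c u₂') := by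
    obtain ⟨w', hw', -⟩ := (hR u₂' u₂').1 rfl
    have hsp' : u₂ ⤳ s w' := by rw [hw']; exact hsp
    obtain ⟨w'', h1, h2⟩ := Flat.generalizingMap s hsp'
    have h3 := fibreDimAt_le_of_specializes f h1
    rwa [hD, hD, h2, hw'] at h3
  -- (c)
  obtain ⟨u'', h3a, h3b⟩ := hgen u₂' v₁ hcv₁
  have h3c : u'' ≠ v₁ := by
    rintro rfl
    exact h2d (h3b ▸ hcv₁)
  have hlt : nrtd q v₁ < nrtd q u'' := nrtd_lt_of_specializes q h3a h3c (Subsingleton.elim _ _)
  obtain ⟨w'', h4a, h4b⟩ := Flat.generalizingMap t h3a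
  have hr'' : FlatMor.fibreDimAt s w'' = n := (fibreDimAt_eq_of_smooth s h4a).trans hnw
  -- (d)
  obtain ⟨w₃, h5a, h5b⟩ := (hR u₂' u'').1 h3b.symm
  obtain ⟨w₄, h6a, h6b, h6c⟩ := exists_nrtd_eq f w₃
  have hs4 : s w₄ = u₂' := by rw [← hf1', h6b, hf1', h5a]
  have ht4 : t w₄ = u'' := by rw [← hf2', h6b, hf2', h5b]
  have h7 : (nrtd s w₄ : WithBot ℕ∞) ≤ n := by
    have h1 := nrtd_le s (specializes_rfl : w₄ ⤳ w₄) rfl
    rwa [hr w₄ w'' (ht4.trans h4b.symm), hr''] at h1
  have h7' : nrtd s w₄ ≤ n := by exact_mod_cast h7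
  have h8 : nrtd q u'' + nrtd f w₄ ≤ n := by
    have h1 := e1 w₄
    have h2 := e3 w₄
    rw [hs4, h0] at h1
    rw [ht4] at h2
    omega
  have h9 : D (c u₂') = nrtd f w₄ := by
    rw [← h6c, hD, h5a]
  rw [h9] at hsemi
  refine lt_of_le_of_lt hsemi (lt_of_lt_of_le ?_ ha')
  have h10 : nrtd f w₄ < nrtd f w := by omega
  exact_mod_cast h10

end K894.DimCore
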