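import Groth.Agent.StMod.K894.DimGpd2
import Groth.Agent.StMod.K894.DimCore
import Groth.Agent.AlgSt.K735.DvrReal
import Groth.Agent.AlgSt.K738.LftDiag
import Groth.Agent.AlgSt.K743.StabQA
import Groth.Agent.AlgSt.K742.ImmLN
import Groth.Agent.AlgSt.K740.SpDM
import Groth.Agent.AlgSt.K740.SpIso
import Groth.Agent.StMod.K563.QsDiag
import Groth.Agent.StMod.K906.PresQc
import Groth.Agent.AlgSp.K604.LimSepY
import Groth.Agent.Gerb.K894.SmST
import Groth.Agent.S5341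

/-!
# Strict drop of the dimension of the stabilizer over a field

`DimStab.stab_lt`: `𝒴` an algebraic stack locally of finite type, quasi-compact and quasi-separated over a field, `x₁` a closed
point of `|𝒴|` which is a specialization of every point: the stabilizer of every other point has strictly smaller dimension.
-/

set_option autoImplicit false
set_option backward.isDefEq.respectTransparency false
set_option backward.isDefEq.respectTransparency.types false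

universe u

open CategoryTheory CategoryTheory.Limits AlgebraicGeometry Opposite
open AlgSt K741

namespace K894.DimStab

open K894.DimGpd

/-- the statement of node A: the automorphism sheaf of a point with `AutRep`, in `K741.Ch`. -/
def NodeA (S : Scheme.{u}) : Prop := ∀ {𝒴 : AlgSt.Cat S} (_ : FibCat.IsFibGrpd 𝒴.p) {T : Over S}
    (ξ : FibCat.overCat T ⥤ᵇ 𝒴) (G : Over T.left) [GrpObj G] (_ : Gerb.AutRep ξ (Gerb.ptsGrp T G)),
    ∃ (e : K741.Ch 𝒴) (l₁ l₂ : e ⟶ K741.ofChart ξ) (i : e.F ≅ (AlgSp.yon S).obj (Over.mk (G.hom ≫ T.hom))),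
      l₁.a = l₂.a ∧ l₁.a = i.hom ≫ (AlgSp.yon S).map (Over.homMk G.hom rfl) ∧
      ∀ (t : K741.Ch 𝒴) (m₁ m₂ : t ⟶ K741.ofChart ξ), m₁.a = m₂.a → ∃! w : t ⟶ e, w ≫ l₁ = m₁ ∧ w ≫ l₂ = m₂

variable {S : Scheme.{u}}

/-- a smooth chart of a stack locally of finite type over a scheme is locally of finite type. -/
theorem lft_of_locQ {𝒴 : AlgSt.Cat S} (h𝒴 : FibCat.IsFibGrpd 𝒴.p) {Z V : Over S}
    (p : 𝒴 ⥤ᵇ AlgSt.ofSp ((AlgSp.yon S).obj Z)) (hlft : AlgSt.LocQ (AlgSp.LocP @LocallyOfFiniteType) p)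
    (v : FibCat.overCat V ⥤ᵇ 𝒴) (hv : RepByAlgSpWith (AlgSp.LocP @Smooth) v) (b : V ⟶ Z)
    (α : BasedFunctor.comp v p ≅ BasedFunctor.comp (overMap b) (ofOverCat Z)) : LocallyOfFiniteType b.left := by
  have hid : ∀ U : Over S, AlgSp.LocP (S := S) @Smooth (𝟙 ((AlgSp.yon S).obj U)) := by
    intro U
    have h1 : 𝟙 ((AlgSp.yon S).obj U) = (AlgSp.yon S).map (𝟙 U) := ((AlgSp.yon S).map_id U).symm
    rw [h1]
    exact (K742.nice_smooth.yon_iff (𝟙 U)).2 (by change Smooth (𝟙 _); infer_instance)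
  have he : FibCat.IsEquivOver (ofOverCat Z) := K735.Rep.isEquivOver_ofOverCat Z
  have h1 := prop_of_locQ (K894.SmST.isSmoothLocalST_lft (S := S)) h𝒴 (K735.Rep.isFibGrpd_ofSp _) hlft v (ofOverCat Z) b α
    (K740.SpIso.repByAlgSpWith_of_isEquivOver hid he) (by
      have h2 : FibCat.IsEquivOver (FibCat.fpFst p (ofOverCat Z)) := K734.Fib.isEquivOver_fpFst p _ he
      exact (K740.SpDM.repByAlgSpWith_comp_equiv h2).1 hv)
  exact (K742.nice_lft.yon_iff b).1 h1

/-- cancellation for morphisms locally of finite type of algebraic spaces. -/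
theorem locP_lft_of_comp {F : AlgSp.Sp S} {Z V : Over S} {j : F ⟶ (AlgSp.yon S).obj Z} {pr : Z ⟶ V}
    (h : AlgSp.LocP @LocallyOfFiniteType (j ≫ (AlgSp.yon S).map pr)) : AlgSp.LocP @LocallyOfFiniteType j := by
  intro U W a b f ha hb hf
  obtain ⟨β, hβ⟩ := (AlgSp.yon S).map_surjective b
  have h1 : a ≫ j ≫ (AlgSp.yon S).map pr = (AlgSp.yon S).map (f ≫ β ≫ pr) := by
    rw [← Category.assoc, hf, ← hβ, Functor.map_comp, Functor.map_comp, Category.assoc]
  have h2 : LocallyOfFiniteType (f ≫ β ≫ pr).left := K735.Top.locP_chart h ha h1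
  have h3 : LocallyOfFiniteType (f.left ≫ (β ≫ pr).left) := h2
  exact locallyOfFiniteType_of_comp f.left (β ≫ pr).left

/-- the fibre dimension of a group scheme over a field. -/
theorem fibreDimAt_grp (K : Type u) [Field K] (G : Over (Spec (CommRingCat.of K))) [GrpObj G] [LocallyOfFiniteType G.hom]
    (g : G.left) : FlatMor.fibreDimAt G.hom g = topologicalKrullDim ↥G.left := by
  rw [← (Groth.Agent.S5341.result K G).2 g]
  exact K609.GpdDim.fibreDimAt_of_subsingleton G.hom g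

section

variable {𝒴 : AlgSt.Cat S} (h𝒴 : AlgSt.IsAlgStack Scheme.fppfPrecoverage 𝒴)

include h𝒴 in
/-- comparison of the fibre dimension of `V ×_𝒴 V ⟶ V × V` with the dimension of a group scheme representing the automorphisms
of a point. -/
theorem hasAtMor_pair_grp (hA : NodeA S) {c e : Ch 𝒴} {k₁ k₂ : e ⟶ c} (hk : IsPr k₁ k₂)
    {W : AlgSp.Sp S} {w₁ w₂ : W ⟶ c.F} (hW : ∀ {T : AlgSp.Sp S} (a b : T ⟶ W), a ≫ w₁ = b ≫ w₁ → a ≫ w₂ = b ≫ w₂ → a = b)
    {j : e.F ⟶ W} (hj₁ : j ≫ w₁ = k₁.a) (hj₂ : j ≫ w₂ = k₂.a) (he : AlgSp.IsAlgSpace e.F) (hWs : AlgSp.IsAlgSpace W)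
    (hj : AlgSp.LocP @LocallyOfFiniteType j)
    (K : Type u) [Field K] (p : Spec (CommRingCat.of K) ⟶ S) (ζ : FibCat.overCat (Over.mk p) ⥤ᵇ 𝒴)
    (G : Over (Spec (CommRingCat.of K))) [GrpObj G] (r : Gerb.AutRep ζ (Gerb.ptsGrp (Over.mk p) G))
    (x : AlgSp.Points e.F) (hx : cls e x = AlgSt.Points.ofChart ζ (IsLocalRing.closedPoint K)) :
    AlgSp.HasAtMor (fun _ _ h u => FlatMor.fibreDimAt h u = topologicalKrullDim ↥G.left) j x := by
  have hl : AlgSp.LocP @LocallyOfFiniteType ((AlgSp.yon S).map (K743.StabQA.str (Over.mk p) G)) :=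
    have := K735.Top.locP_respectsIso (S := S) @LocallyOfFiniteType
    K743.StabQA.prop_str ζ G h𝒴.isStack.1 r _ (K738.Lft.repByAlgSpWith_lft_diag_toSelf h𝒴)
  have hlG : LocallyOfFiniteType G.hom := (K742.nice_lft.yon_iff _).1 hl
  obtain ⟨N', l₁', l₂', i, h1, h2, h3⟩ := hA h𝒴.isStack.1 (T := Over.mk p) ζ G r
  have hl' : IsAut l₁' l₂' := ⟨h1, h3⟩
  let t' : Ch 𝒴 := ofChart ζ
  have ht' : AlgSp.IsAlgSpace t'.F := AlgSp.IsAlgSpace.yon_obj _
  have hN' : AlgSp.IsAlgSpace N'.F := (AlgSp.IsAlgSpace.yon_obj _).of_iso i.symm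
  let g₀ : Over.mk (G.hom ≫ p) ⟶ Over.mk p := Over.homMk G.hom rfl
  have hl'a : AlgSp.LocP @LocallyOfFiniteType l₁'.a := by
    have := K735.Top.locP_respectsIso (S := S) @LocallyOfFiniteType
    rw [h2]
    exact (MorphismProperty.cancel_left_of_respectsIso (AlgSp.LocP @LocallyOfFiniteType) _ _).2 hl
  obtain ⟨o', ⟨ho₁, ho₂⟩, -⟩ := h3 t' (𝟙 t') (𝟙 t') rfl
  let q : AlgSp.Points t'.F := AlgSp.Points.ofScheme (Over.mk p) (IsLocalRing.closedPoint K)
  have hcls : cls e x = cls t' q := hx.trans (ofChart_toOverCat ζ _).symm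
  rw [hasAtMor_pair_aut_iff (K609.GpdDim.bcInv_fibreDimAt _) h𝒴.isStack.1 h𝒴.diag hk hW hj₁ hj₂ he hWs hj hl' ht' hN' hl'a x q
    hcls o' ho₁ ho₂]
  obtain ⟨g, hg⟩ := (AlgSp.Points.schemeEquiv (Over.mk (G.hom ≫ p) : Over S)).surjective
    (AlgSp.Points.map i.hom (AlgSp.Points.map o'.a q))
  have hg' : AlgSp.Points.ofPt i.inv g = AlgSp.Points.map o'.a q := by
    rw [AlgSp.Points.ofPt_eq_map_ofScheme]
    have h5 : AlgSp.Points.ofScheme (Over.mk (G.hom ≫ p) : Over S) g = AlgSp.Points.map i.hom (AlgSp.Points.map o'.a q) := hg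
    refine (congrArg (AlgSp.Points.map i.inv) h5).trans ?_
    rw [← AlgSp.Points.map_comp, i.hom_inv_id, AlgSp.Points.map_id]
  rw [← hg']
  have hinv : AlgSp.RepWith @Etale i.inv := MorphismProperty.of_isIso (AlgSp.RepWith @Etale) i.inv
  refine (K616.Inv.hasAtMor_iff (K609.GpdDim.bcInv_fibreDimAt (topologicalKrullDim ↥G.left)).et hl'a i.inv (𝟙 _) g₀ hinv
    (AlgSp.repWith_id _ _) ?_ g).2 ?_
  · rw [h2, Iso.inv_hom_id_assoc, Category.comp_id]
  · exact fibreDimAt_grp K G g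

include h𝒴 in
/-- **Strict drop of the dimension of the stabilizer**, over a field. -/
theorem stab_lt [QuasiSeparatedSpace S] (hA : NodeA S) {κ : Type u} [Field κ] (σ : Spec (CommRingCat.of κ) ⟶ S)
    (p : 𝒴 ⥤ᵇ AlgSt.ofSp ((AlgSp.yon S).obj (Over.mk σ))) (hlft : AlgSt.LocQ (AlgSp.LocP @LocallyOfFiniteType) p)
    (hqc : AlgSt.IsQuasiCompactMor Scheme.fppfPrecoverage p) (hqs : AlgSt.IsQuasiSeparatedMor p)
    (K₁ : Type u) [Field K₁] (p₁ : Spec (CommRingCat.of K₁) ⟶ S) (ζ₁ : FibCat.overCat (Over.mk p₁) ⥤ᵇ 𝒴)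
    (G₁ : Over (Spec (CommRingCat.of K₁))) [GrpObj G₁] (r₁ : Gerb.AutRep ζ₁ (Gerb.ptsGrp (Over.mk p₁) G₁))
    (K₂ : Type u) [Field K₂] (p₂ : Spec (CommRingCat.of K₂) ⟶ S) (ζ₂ : FibCat.overCat (Over.mk p₂) ⥤ᵇ 𝒴)
    (G₂ : Over (Spec (CommRingCat.of K₂))) [GrpObj G₂] (r₂ : Gerb.AutRep ζ₂ (Gerb.ptsGrp (Over.mk p₂) G₂))
    (hne : AlgSt.Points.ofChart ζ₂ (IsLocalRing.closedPoint K₂) ≠ AlgSt.Points.ofChart ζ₁ (IsLocalRing.closedPoint K₁))
    (hcl : IsClosed ({AlgSt.Points.ofChart ζ₁ (IsLocalRing.closedPoint K₁)} : Set (AlgSt.Points 𝒴)))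
    (hsp : ∀ y : AlgSt.Points 𝒴, y ⤳ AlgSt.Points.ofChart ζ₁ (IsLocalRing.closedPoint K₁)) :
    topologicalKrullDim ↥G₂.left < topologicalKrullDim ↥G₁.left := by
  have h0 := h𝒴.isStack.1
  have hZ : AlgSp.IsAlgSpace ((AlgSp.yon S).obj (Over.mk σ)) := AlgSp.IsAlgSpace.yon_obj _
  -- the stack is quasi-compact with quasi-compact diagonal
  have hZa : IsAffine (Over.mk σ : Over S).left := inferInstanceAs (IsAffine (Spec (CommRingCat.of κ)))
  have hZq : AlgSp.IsQuasiSeparatedSp ((AlgSp.yon S).obj (Over.mk σ)) := K604.LimSepY.isQuasiSeparatedSp_yon hZa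
  have hΔ := K563.QsDiag.diag_isQuasiCompactMor h𝒴 hZ hZq p hqs
  have hq : AlgSt.IsQuasiCompact 𝒴 := by
    refine K742.LN.isQuasiCompact_of_qcMor h𝒴 (K740.SpDM.isAlgStack_ofSp hZ) p hqc ?_
    exact K906.isQuasiCompact_of_equiv (ofOverCat (Over.mk σ)) (K735.Rep.isEquivOver_ofOverCat _)
      (K906.isQuasiCompact_overCat hZa)
  obtain ⟨V, v, hVa, hv, hvs⟩ := hq
  -- the structure morphism of the chart
  let c : Ch 𝒴 := ofChart v
  obtain ⟨b, hb⟩ := (AlgSp.yon S).map_surjective ((Ch.push p).obj c).toTop.a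
  have hbl : LocallyOfFiniteType b.left := by
    refine lft_of_locQ h0 p hlft v hv b ?_
    have e1 : BasedFunctor.comp c.x p ≅ ofSpMap ((AlgSp.yon S).map b) := by
      rw [hb]
      exact spMapIso _
    exact K735.Fib.whiskerLeftIso (ofOverCat V) e1
  -- the product of the chart with itself
  have hrp := (rp_ofChart_iff h0 (AlgSp.LocP @Smooth) v).1 hv
  obtain ⟨e, k₁, k₂, hk, he, hk₁⟩ := hrp c (isSch_ofChart v)
  have hk₂ : AlgSp.LocP @Smooth k₂.a := (hrp.prop hk.symm (isSch_ofChart v)).2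
  obtain ⟨R, a, ha, has⟩ := he.atlas
  obtain ⟨s, hs⟩ := (AlgSp.yon S).map_surjective (a ≫ k₁.a)
  obtain ⟨t, ht⟩ := (AlgSp.yon S).map_surjective (a ≫ k₂.a)
  have hss : Smooth s.left := K735.Top.locP_chart hk₁ ha hs.symm
  have hts : Smooth t.left := K735.Top.locP_chart hk₂ ha ht.symm
  have hcond : k₁.a ≫ (AlgSp.yon S).map b = k₂.a ≫ (AlgSp.yon S).map b := by
    rw [hb]
    exact congrArg Ch.Hom.a (Ch.top_unique ((Ch.push p).map k₁ ≫ ((Ch.push p).obj c).toTop)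
      ((Ch.push p).map k₂ ≫ ((Ch.push p).obj c).toTop))
  have hst : s ≫ b = t ≫ b := by
    apply (AlgSp.yon S).map_injective
    rw [Functor.map_comp, Functor.map_comp, hs, ht, Category.assoc, Category.assoc, hcond]
  have hst' : s.left ≫ b.left = t.left ≫ b.left := congrArg CommaMorphism.left hst
  -- the product of the chart with itself over the field
  let Z₂ : Over S := Over.mk (pullback.fst b.left b.left ≫ V.hom)
  let pr₁ : Z₂ ⟶ V := Over.homMk (pullback.fst b.left b.left) rfl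
  let pr₂ : Z₂ ⟶ V := Over.homMk (pullback.snd b.left b.left) (by
    change pullback.snd b.left b.left ≫ V.hom = pullback.fst b.left b.left ≫ V.hom
    rw [← Over.w b, ← Category.assoc, ← Category.assoc, pullback.condition])
  have hpb : IsPullback pr₁ pr₂ b b :=
    K598.RepKit.over_isPullback (IsPullback.of_hasPullback b.left b.left)
  have hpby := K598.RepKit.yon_isPullback hpb
  let j : e.F ⟶ (AlgSp.yon S).obj Z₂ := hpby.lift k₁.a k₂.a hcond
  have hj₁ : j ≫ (AlgSp.yon S).map pr₁ = k₁.a := hpby.lift_fst _ _ _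
  have hj₂ : j ≫ (AlgSp.yon S).map pr₂ = k₂.a := hpby.lift_snd _ _ _
  have hW : ∀ {T : AlgSp.Sp S} (a b : T ⟶ (AlgSp.yon S).obj Z₂), a ≫ (AlgSp.yon S).map pr₁ = b ≫ (AlgSp.yon S).map pr₁ →
      a ≫ (AlgSp.yon S).map pr₂ = b ≫ (AlgSp.yon S).map pr₂ → a = b := fun a b h1 h2 => hpby.hom_ext h1 h2
  have hjl : AlgSp.LocP @LocallyOfFiniteType j := by
    apply locP_lft_of_comp (pr := pr₁)
    rw [hj₁]
    exact K738.Lft.locP_lft_of_locP_smooth hk₁
  let h : R ⟶ Z₂ := Over.homMk (pullback.lift s.left t.left hst') (by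
    change pullback.lift s.left t.left hst' ≫ pullback.fst b.left b.left ≫ V.hom = R.hom
    rw [pullback.lift_fst_assoc, Over.w s])
  have hh₁ : h ≫ pr₁ = s := Over.OverMorphism.ext (pullback.lift_fst _ _ _)
  have hh₂ : h ≫ pr₂ = t := Over.OverMorphism.ext (pullback.lift_snd _ _ _)
  have hha : a ≫ j = (AlgSp.yon S).map h ≫ 𝟙 _ := by
    rw [Category.comp_id]
    apply hW
    · rw [Category.assoc, hj₁, ← Functor.map_comp, hh₁, hs]
    · rw [Category.assoc, hj₂, ← Functor.map_comp, hh₂, ht]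
  -- points
  have hcs : ∀ w : R.left, cls e (AlgSp.Points.ofPt a w) = AlgSt.Points.ofChart v (s.left w) := by
    intro w
    rw [← cls_map h0 k₁, AlgSp.Points.map_ofPt, ← hs, K609.Points.ofPt_yon_map]
    exact ofChart_toOverCat v _
  have hct : ∀ w : R.left, cls e (AlgSp.Points.ofPt a w) = AlgSt.Points.ofChart v (t.left w) := by
    intro w
    rw [← cls_map h0 k₂, AlgSp.Points.map_ofPt, ← ht, K609.Points.ofPt_yon_map]
    exact ofChart_toOverCat v _
  have hR : ∀ u u' : V.left, AlgSt.Points.ofChart v u = AlgSt.Points.ofChart v u' ↔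
      ∃ w : R.left, s.left w = u ∧ t.left w = u' := by
    intro u u'
    constructor
    · intro huu
      obtain ⟨Ω, _, s₀, y, m, n, hmn⟩ := exists_common h0 c c (AlgSp.Points.ofScheme V u) (AlgSp.Points.ofScheme V u')
        ((ofChart_toOverCat v u).trans (huu.trans (ofChart_toOverCat v u').symm))
      obtain ⟨l, ⟨hl₁, hl₂⟩, -⟩ := hk _ m n
      let τ := AlgSp.Points.ofScheme (Over.mk s₀ : Over S) (IsLocalRing.closedPoint Ω)
      obtain ⟨w, hw⟩ := K609.Points.surjective_ofPt_of_repWith_surjective has (AlgSp.Points.map l.a τ)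
      refine ⟨w, ?_, ?_⟩
      · apply K609.Points.ofScheme_injective V
        rw [← (hmn τ).1, ← K609.Points.ofPt_yon_map, hs, ← AlgSp.Points.map_ofPt, hw, ← AlgSp.Points.map_comp]
        exact congrArg (fun z => AlgSp.Points.map (Ch.Hom.a z) τ) hl₁
      · apply K609.Points.ofScheme_injective V
        rw [← (hmn τ).2, ← K609.Points.ofPt_yon_map, ht, ← AlgSp.Points.map_ofPt, hw, ← AlgSp.Points.map_comp]
        exact congrArg (fun z => AlgSp.Points.map (Ch.Hom.a z) τ) hl₂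
    · rintro ⟨w, rfl, rfl⟩
      rw [← hcs, ← hct]
  -- relative dimension
  have hr : ∀ w w' : R.left, t.left w = t.left w' → FlatMor.fibreDimAt s.left w = FlatMor.fibreDimAt s.left w' := by
    intro w w' hww
    have hs' : a ≫ k₁.a = (AlgSp.yon S).map s ≫ 𝟙 _ := by rw [hs, Category.comp_id]
    have h1 := (K616.Inv.hasAtMor_iff (K609.GpdDim.bcInv_fibreDimAt (FlatMor.fibreDimAt s.left w')).et
      (K738.Lft.locP_lft_of_locP_smooth hk₁) a (𝟙 _) s ha (AlgSp.repWith_id _ _) hs' w)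
    have h2 := (K616.Inv.hasAtMor_iff (K609.GpdDim.bcInv_fibreDimAt (FlatMor.fibreDimAt s.left w')).et
      (K738.Lft.locP_lft_of_locP_smooth hk₁) a (𝟙 _) s ha (AlgSp.repWith_id _ _) hs' w')
    refine h1.1 ?_
    refine (hasAtMor_fst_iff (K609.GpdDim.bcInv_fibreDimAt _) h0 hk (AlgSp.IsAlgSpace.yon_obj _) he
      (K738.Lft.locP_lft_of_locP_smooth hk₁) _ _ ?_).1 (h2.2 rfl)
    rw [AlgSp.Points.map_ofPt, AlgSp.Points.map_ofPt, ← ht, K609.Points.ofPt_yon_map, K609.Points.ofPt_yon_map, hww]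
  -- the dimension of the stabilizer
  have hjd : ∀ (d : WithBot ℕ∞) (w : R.left), AlgSp.HasAtMor (fun _ _ h u => FlatMor.fibreDimAt h u = d) j
      (AlgSp.Points.ofPt a w) ↔ FlatMor.fibreDimAt h.left w = d := fun d w =>
    K616.Inv.hasAtMor_iff (K609.GpdDim.bcInv_fibreDimAt d).et hjl a (𝟙 _) h ha (AlgSp.repWith_id _ _) hha w
  classical
  let D : AlgSt.Points 𝒴 → WithBot ℕ∞ := fun y =>
    if hy : ∃ w : R.left, AlgSt.Points.ofChart v (s.left w) = y then FlatMor.fibreDimAt h.left hy.choose else 0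
  have hD : ∀ w : R.left, FlatMor.fibreDimAt h.left w = D (AlgSt.Points.ofChart v (s.left w)) := by
    intro w
    have hy : ∃ w' : R.left, AlgSt.Points.ofChart v (s.left w') = AlgSt.Points.ofChart v (s.left w) := ⟨w, rfl⟩
    have h1 : D (AlgSt.Points.ofChart v (s.left w)) = FlatMor.fibreDimAt h.left hy.choose := dif_pos hy
    rw [h1]
    refine (hjd _ w).1 ((hasAtMor_pair_iff (K609.GpdDim.bcInv_fibreDimAt _) h0 h𝒴.diag hk hW hj₁ hj₂ he
      (AlgSp.IsAlgSpace.yon_obj _) hjl _ _ ?_).1 ((hjd _ hy.choose).2 rfl))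
    rw [hcs, hcs, hy.choose_spec]
  have hDG : ∀ (K : Type u) [Field K] (p : Spec (CommRingCat.of K) ⟶ S) (ζ : FibCat.overCat (Over.mk p) ⥤ᵇ 𝒴)
      (G : Over (Spec (CommRingCat.of K))) [GrpObj G] (_ : Gerb.AutRep ζ (Gerb.ptsGrp (Over.mk p) G)) (u : V.left),
      AlgSt.Points.ofChart v u = AlgSt.Points.ofChart ζ (IsLocalRing.closedPoint K) →
      D (AlgSt.Points.ofChart v u) = topologicalKrullDim ↥G.left := by
    intro K _ p ζ G _ r u hu
    obtain ⟨w, rfl, -⟩ := (hR u u).1 rfl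
    rw [← hD]
    exact (hjd _ w).1 (hasAtMor_pair_grp h𝒴 hA hk hW hj₁ hj₂ he (AlgSp.IsAlgSpace.yon_obj _) hjl K p ζ G r _
      ((hcs w).trans hu))
  have hsurj : Function.Surjective (AlgSt.Points.ofChart v) :=
    (K735.PtsSp.surjective_map_iff_surjective_ofChart v).1
      (K735.Top.surjective_of_repByAlgSpWith h0 (K735.Fp.isFibGrpd_overCat V) hvs)
  obtain ⟨u₁, hu₁⟩ := hsurj (AlgSt.Points.ofChart ζ₁ (IsLocalRing.closedPoint K₁))
  obtain ⟨u₂, hu₂⟩ := hsurj (AlgSt.Points.ofChart ζ₂ (IsLocalRing.closedPoint K₂))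
  rw [← hDG K₁ p₁ ζ₁ G₁ r₁ u₁ hu₁, ← hDG K₂ p₂ ζ₂ G₂ r₂ u₂ hu₂]
  refine DimCore.dim_lt b.left s.left t.left hst' (AlgSt.Points.ofChart v) hR hr D hD u₁ u₂ ?_ ?_ ?_
  · rw [hu₁, hu₂]
    exact hne
  · rw [hu₁]
    exact ⟨hcl.isOpen_compl V v hv⟩
  · intro u u' hu'
    exact K735.DvrReal.exists_generization h0 hΔ v hv u u' (by rw [hu', hu₁]; exact hsp _)

end

end K894.DimStab
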