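import Groth.Agent.StMod.K894.AffMono
import Groth.Agent.Gerb.K893.Chart
import Groth.Agent.AlgSt.K735.PtsSp
import Groth.Agent.AlgSt.K740.Mono
import Groth.Agent.AlgSt.K737.MonoFF
import Groth.Agent.S10373
import Groth.Agent.S10361
import Groth.Agent.S17522

/-!
# Reduced stacks with image one point of a quasi-separated algebraic space
-/

set_option autoImplicit false
set_option linter.unusedVariables false
set_option linter.style.haveILetI false
set_option backward.isDefEq.respectTransparency false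
set_option backward.isDefEq.respectTransparency.types false

universe w' v' w v u

open CategoryTheory CategoryTheory.Limits AlgebraicGeometry Opposite StMod AlgSt AlgSp

namespace K894.PtFac

open K906 K906.SpGeo K907.Sec K894.SerreMono K894.AffMono K594.Elem

variable {S : Scheme.{u}}

/-- A section which is locally in the image of a monomorphism is in the image. -/
theorem exists_section {F G : Sp S} (g : F ⟶ G) [Mono g] {V : Over S} (x : G.obj.obj (op V)) {R : Sieve V}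
    (hR : R ∈ J S V) (h : ∀ ⦃W : Over S⦄ (f : W ⟶ V), R f → ∃ a : F.obj.obj (op W), g.hom.app (op W) a = G.obj.map f.op x) :
    ∃ a : F.obj.obj (op V), g.hom.app (op V) a = x := by
  have hinj := (K594.Basic.mono_iff (f := g)).1 inferInstance
  have hF := (isSheaf_iff_isSheaf_of_type _ _).1 F.property R hR
  have hG := (isSheaf_iff_isSheaf_of_type _ _).1 G.property R hR
  choose a ha using h
  have hcomp : Presieve.FamilyOfElements.Compatible (P := F.obj) (R := R.arrows) a := by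
    intro Y₁ Y₂ Z g₁ g₂ f₁ f₂ h₁ h₂ hc
    apply hinj
    rw [NatTrans.naturality_apply, NatTrans.naturality_apply, ha, ha, ← map_comp_apply, ← map_comp_apply, hc]
  let b : F.obj.obj (op V) := hF.amalgamate a hcomp
  refine ⟨b, ?_⟩
  refine hG.isSeparatedFor.ext fun Y f hf => ?_
  have h1 : F.obj.map f.op b = a f hf := hF.valid_glue hcomp f hf
  rw [← NatTrans.naturality_apply, h1, ha]

/-- The objects of `ofSp G` in the image of `g`. -/
def Img {F G : Sp S} (g : F ⟶ G) (η : (ofSp G).obj) : Prop := ∃ a : F.obj.obj (op η.base), g.hom.app (op η.base) a = η.sec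

theorem Img.of_hom {F G : Sp S} {g : F ⟶ G} {η' η : (ofSp G).obj} (k : η' ⟶ η) (h : Img g η) : Img g η' := by
  obtain ⟨a, ha⟩ := h
  refine ⟨F.obj.map k.hom.op a, ?_⟩
  rw [NatTrans.naturality_apply, ha]
  exact k.map_sec

theorem Img.of_local {F G : Sp S} {g : F ⟶ G} [Mono g] {η : (ofSp G).obj} {T : Over S} (hT : (ofSp G).p.obj η = T)
    {R : Sieve T} (hR : R ∈ J S T) (h : ∀ ⦃W : Over S⦄ (f : W ⟶ T), R f → ∃ (η' : (ofSp G).obj) (k : η' ⟶ η),
      (ofSp G).p.IsHomLift f k ∧ Img g η') : Img g η := by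
  subst hT
  refine exists_section g η.sec hR fun W f hf => ?_
  obtain ⟨η', k, hk, a, ha⟩ := h f hf
  have h1 : (ofSp G).p.obj η' = W := IsHomLift.domain_eq (ofSp G).p f k
  subst h1
  have h2 : (ofSp G).p.map k = f := by
    have := IsHomLift.fac (ofSp G).p f k
    simpa using this.symm
  refine ⟨a, ha.trans ?_⟩
  rw [← h2]
  exact k.map_sec.symm

section Equiv

variable {𝒢 : AlgSt.Cat S} {F M : Sp S}

/-- The base change of a monomorphism whose image contains the image of `q` is an equivalence. -/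
theorem isEquivOver_fpSnd (hF : IsAlgSpace F) (hM : IsAlgSpace M) (g : F ⟶ M) [Mono g] (q : 𝒢 ⥤ᵇ ofSp M)
    (h : ∀ ξ : 𝒢.obj, Img g (q.obj ξ)) : FibCat.IsEquivOver (FibCat.fpSnd (ofSpMap g) q) := by
  have hm : AlgSt.IsMono (ofSpMap g) := K894.ResG.isMono_ofSpMap hF hM g
  obtain ⟨-, hfull, hfaith⟩ := (K737.MonoFF.isMono_iff K907.FibTerm.isFibGrpd_ofSp (ofSpMap g)).1 hm
  have h1 : FibCat.IsEquivOver (FibCat.fpFst q (ofSpMap g)) := by
    refine K743.BC.isEquivOver_of_ff _ (K734.Fib.full_fpFst q (ofSpMap g) hfull)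
      (K734.Fib.faithful_fpFst q (ofSpMap g) hfaith) fun ξ => ?_
    obtain ⟨a, ha⟩ := h ξ
    have e : q.obj ξ = (ofSpMap g).obj ⟨(q.obj ξ).base, a⟩ := by
      change q.obj ξ = ⟨(q.obj ξ).base, g.hom.app (op (q.obj ξ).base) a⟩
      rw [ha]
    refine ⟨K735.Fp.mkFp q (ofSpMap g) ξ ⟨(q.obj ξ).base, a⟩ (eqToIso e) (K735.Fib.vert_eqToHom e), Iso.refl ξ, ?_⟩
    exact IsHomLift.id rfl
  exact K734.Fib.isEquivOver_comp (K734.Fib.isEquivOver_fpSwap (ofSpMap g) q) h1

end Equiv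

section ExEquiv

variable {𝒜 : BasedCategory.{v, w} (Over S)} {ℬ : BasedCategory.{v', w'} (Over S)}

theorem isAff_of_isEquivOver {d : 𝒜 ⥤ᵇ ℬ} (hd : FibCat.IsEquivOver d) : K908.Aff.IsAff d := by
  intro ξ hξ
  obtain ⟨w, e, he⟩ := K734.Fib.essSurjOver_of hd ξ
  have hfull := K734.Fib.full_of hd
  have hfaith := K734.Fib.faithful_of hd
  have e1 : 𝒜.p.obj w ≅ ℬ.p.obj ξ := eqToIso (d.w_obj w).symm ≪≫ ℬ.p.mapIso e
  have e2 : sch 𝒜 w ≅ sch ℬ ξ := (Over.forget S).mapIso e1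
  refine ⟨w, e.hom, IsAffine.of_isIso e2.hom, ?_⟩
  intro θ β
  obtain ⟨χ, hχ⟩ := d.toFunctor.map_surjective (β ≫ e.inv)
  have hχ' : d.map χ = β ≫ e.inv := hχ
  refine ⟨χ, ?_, fun χ' hχ'' => ?_⟩
  · change d.map χ ≫ e.hom = β
    rw [hχ', Category.assoc, e.inv_hom_id, Category.comp_id]
  · apply d.toFunctor.map_injective
    have h1 : d.map χ' ≫ e.hom = β := hχ''
    have h2 : d.map χ' = β ≫ e.inv := by rw [← h1, Category.assoc, e.hom_inv_id, Category.comp_id]
    exact h2.trans hχ'.symm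

theorem exact_of_isEquivOver (h𝒜 : FibCat.IsFibGrpd 𝒜.p) (hℬ : FibCat.IsFibGrpd ℬ.p) {d : 𝒜 ⥤ᵇ ℬ}
    (hd : FibCat.IsEquivOver d) (h : K906.Exact ℬ) : K906.Exact 𝒜 :=
  AffFp.exact_of_isAff hℬ h𝒜 (isAff_of_isEquivOver hd) h

end ExEquiv

/-- Exactness of the stack gives cohomological affineness over an affine base. -/
theorem isCohAffine_of_exact [IsAffine S] {𝒢 : AlgSt.Cat S} (h𝒢 : FibCat.IsFibGrpd 𝒢.p) (h : K906.Exact 𝒢)
    (σ : 𝒢 ⥤ᵇ ofSch (Over.mk (𝟙 S))) : IsCohAffine σ := by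
  intro F G u hu E hE
  have hEa : RepWith @IsAffineHom E.obj.hom := by
    obtain ⟨f, hf⟩ := (yon S).map_surjective E.obj.hom
    rw [← hf]
    refine (repWith_yon_map_iff @IsAffineHom f).2 ?_
    have : IsAffine E.obj.left.left := hE
    have h2 : IsAffine (Over.mk (𝟙 S)).left := ‹IsAffine S›
    infer_instance
  have haff : K908.Aff.IsAff (fibPt σ (etaOf E)) := by
    intro z hz
    obtain ⟨y, φ, h1, h2, -⟩ := ExactE.exists_fibObjP h𝒢 σ E z
    refine ⟨y, φ, ?_, h1⟩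
    have h3 : IsAffineHom (bmap 𝒢 φ) := h2 @IsAffineHom inferInstance hEa
    have h4 : IsAffine (sch 𝒢 z) := hz
    exact isAffine_of_isAffineHom (bmap 𝒢 φ)
  exact AffFp.surjective_relSectMap_of_exact (AffFp.exact_of_isAff h𝒢 (isFibGrpd_fibCat h𝒢) haff h) u hu

section Point

variable {𝒢 : AlgSt.Cat S}

local notation "Alg" => IsAlgStack Scheme.fppfPrecoverage

/-- Objects of `𝒢` map into the image of `g` if this holds for a chart. -/
theorem img_of_chart (h𝒢 : Alg 𝒢) {F M : Sp S} (g : F ⟶ M) [Mono g] (q : 𝒢 ⥤ᵇ ofSp M) {U : Over S}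
    (x : FibCat.overCat U ⥤ᵇ 𝒢) (hx : AlgSt.RepByAlgSpWith (AlgSp.LocP @Smooth) x)
    (hxs : AlgSt.RepByAlgSpWith AlgSp.IsSurjectiveMor x) {η : (yon S).obj U ⟶ M}
    (i : BasedFunctor.comp (AlgSt.toOverCat U) (BasedFunctor.comp x q) ≅ ofSpMap η) (l : (yon S).obj U ⟶ F)
    (hl : l ≫ g = η) (ξ : 𝒢.obj) : Img g (q.obj ξ) := by
  have hU : FibCat.IsFibGrpd (FibCat.overCat U).p := (K742.QC.isAlgStack_overCat U).isStack.1
  obtain ⟨R, hR, h⟩ := K893.Chart.locSurjObj hU h𝒢.isStack.1 hxs (K742.nice_flat.of_smooth hx)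
    (K742.nice_lfp.of_smooth hx) ξ
  refine Img.of_local (q.w_obj ξ) hR fun W f hf => ?_
  obtain ⟨u, k, hk⟩ := h f hf
  refine ⟨q.obj (x.obj u), q.map k, BasedFunctor.preserves_isHomLift q f k, ?_⟩
  let v : (ofSch U).obj := ⟨u.left, ⟨u.hom⟩⟩
  have h1 : Img g ((ofSpMap η).obj v) := by
    subst hl
    exact ⟨l.hom.app (op u.left) ⟨u.hom⟩, rfl⟩
  exact Img.of_hom (K735.Fib.isoApp i v).hom h1

/-- THE ONE-POINT CRITERION: a reduced stack, cohomologically affine over a quasi-separated space `M`, all of whose points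
map to one point of `M`, has exact global sections. -/
theorem exact_of_point [IsAffine S] (h𝒢 : Alg 𝒢) (hred : AlgSt.SmoothLocally (fun T => IsReduced T) 𝒢)
    (M : Space S) (hM : IsQuasiSeparatedSp M.obj) (q : 𝒢 ⥤ᵇ ofSp M.obj)
    (hqc : AlgSt.IsQuasiCompactMor Scheme.fppfPrecoverage q) (hqs : AlgSt.IsQuasiSeparatedMor q) (hq : IsCohAffine q)
    (m : AlgSp.Points M.obj) (hm : ∀ z : AlgSt.Points 𝒢, K735.PtsSp.ptsEquiv M.obj (AlgSt.Points.map q z) = m) :
    K906.Exact 𝒢 := by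
  obtain ⟨p₀, rfl⟩ := AlgSp.Points.mk_surjective m
  have hp₀ : RepWith @QuasiCompact p₀.toHom := by
    have h1 : IsAffine p₀.pt.left := inferInstanceAs (IsAffine (Spec (CommRingCat.of p₀.K)))
    exact K618.QCPoint.repWith_quasiCompact_of_qs hM inferInstance p₀.toHom
  obtain ⟨p, hpm, hmono, hpq⟩ := Groth.Agent.S10361.result M p₀ hp₀
  obtain ⟨U, x, hx, hxs⟩ := h𝒢.atlas
  have hUr : IsReduced U.left := hred U x hx
  obtain ⟨i⟩ := K735.Rep.exists_iso_spMap (BasedFunctor.comp (AlgSt.toOverCat U) (BasedFunctor.comp x q))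
  let η := K735.Rep.spMap (BasedFunctor.comp (AlgSt.toOverCat U) (BasedFunctor.comp x q))
  have hηm : ∀ y : AlgSp.Points ((yon S).obj U), AlgSp.Points.map η y = AlgSp.Points.mk p₀ := by
    intro y
    have h1 := K735.PtsSp.ptsEquiv_symm_map η y
    have h2 : K735.PtsSp.ptsEquiv M.obj (AlgSt.Points.map (ofSpMap η) ((K735.PtsSp.ptsEquiv _).symm y)) =
        AlgSp.Points.map η y := by rw [h1, Equiv.apply_symm_apply]
    rw [← h2, ← K735.Pts.map_congr i, K735.Pts.map_comp, K735.Pts.map_comp]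
    exact hm _
  have hid : ∀ V : Over S, ∀ P : MorphismProperty Scheme.{u}, P.IsStableUnderBaseChange → P.ContainsIdentities →
      RepWith P (𝟙 ((yon S).obj V)) := by
    intro V P _ _
    have h1 : 𝟙 ((yon S).obj V) = (yon S).map (𝟙 V) := ((yon S).map_id V).symm
    rw [h1]
    exact (repWith_yon_map_iff P (𝟙 V)).2 (P.id_mem _)
  obtain ⟨l, hl⟩ := Groth.Agent.S10373.result (Y := ⟨(yon S).obj U, IsAlgSpace.yon_obj U⟩) (X := M)
    (ObjectProperty.homMk η) (AlgSp.Points.mk p₀) p hpm hmono hpq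
    ⟨U, 𝟙 _, hid U _ inferInstance inferInstance, hid U _ inferInstance inferInstance, hUr⟩ hηm
  have himg := img_of_chart h𝒢 p.toHom q x hx hxs i l hl
  have hE := isEquivOver_fpSnd (IsAlgSpace.yon_obj p.pt) M.property p.toHom q himg
  let M' : Space S := ⟨(yon S).obj p.pt, IsAlgSpace.yon_obj p.pt⟩
  have hpa : IsAffine p.pt.left := inferInstanceAs (IsAffine (Spec (CommRingCat.of p.K)))
  have hM' : IsQuasiSeparatedSp M'.obj := K605.LfpLim.isQuasiSeparatedSp_yon
  have hfp : Alg (FibCat.fp (ofSpMap p.toHom) q) := K742.QC.isAlgStack_fp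
    (K740.SpDM.isAlgStack_ofSp (IsAlgSpace.yon_obj p.pt)) h𝒢 (K740.SpDM.isAlgStack_ofSp M.property) _ _
  have hco := Groth.Agent.S17522.result S 𝒢 h𝒢 M M' hM hM' p.toHom q hqc hqs hfp hq
  let E : EtOver M'.obj := EtOver.mk (𝟙 _) (hid p.pt _ inferInstance inferInstance)
  have hex := ExactE.exact_fibCat_of_qs hfp hM' (FibCat.fpFst (ofSpMap p.toHom) q) hco E hpa
  have hex2 := exact_of_terminal hfp.isStack.1 _ _ (eta0_terminal p.pt) hex
  obtain ⟨d, hd, -, -⟩ := K734.Fib.exists_inverse hE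
  exact exact_of_isEquivOver h𝒢.isStack.1 hfp.isStack.1 hd hex2

end Point

end K894.PtFac
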