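import Groth.Agent.AlgSt.K741.DiagEq
import Groth.Agent.AlgSt.K741.Conv
import Groth.Agent.AlgSp.K609.GpdDim
import Groth.Agent.AlgSt.K735.Top

/-!
# Dimension theory of the groupoid of a chart of a stack

In the category `K741.Ch 𝒴` of sheaves over `𝒴`: points, automorphism sheaves (`IsAut`), the fibres of
`V ×_𝒴 V ⟶ V × V` and of `V ×_𝒴 V ⟶ V`.
-/

set_option autoImplicit false
set_option backward.isDefEq.respectTransparency false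
set_option backward.isDefEq.respectTransparency.types false

universe w v u

open CategoryTheory CategoryTheory.Limits AlgebraicGeometry Opposite
open AlgSt K741

namespace K894.DimGpd

variable {S : Scheme.{u}} {𝒴 : BasedCategory.{v, w} (Over S)}

/-- the point of `|𝒴|` of a point of a sheaf over `𝒴`. -/
noncomputable def cls (c : Ch 𝒴) (p : AlgSp.Points c.F) : AlgSt.Points 𝒴 :=
  AlgSt.Points.map c.x ((K735.PtsSp.ptsEquiv c.F).symm p)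

theorem cls_map (h𝒴 : FibCat.IsFibGrpd 𝒴.p) {c d : Ch 𝒴} (m : c ⟶ d) (p : AlgSp.Points c.F) :
    cls d (AlgSp.Points.map m.a p) = cls c p := by
  have := isIso_two_cell h𝒴 m.α
  unfold cls
  rw [← K735.PtsSp.ptsEquiv_symm_map, ← K735.Pts.map_comp]
  exact (K735.Pts.map_congr (asIso m.α) _).symm

theorem cls_top {F : AlgSp.Sp S} (p : AlgSp.Points F) :
    cls (Ch.top F) p = (K735.PtsSp.ptsEquiv F).symm p := K735.Pts.map_id _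

theorem ofChart_toOverCat {U : Over S} (v : FibCat.overCat U ⥤ᵇ 𝒴) (t : ↥U.left) :
    cls (ofChart v) (AlgSp.Points.ofScheme U t) = AlgSt.Points.ofChart v t := by
  have h1 : (K735.PtsSp.ptsEquiv ((AlgSp.yon S).obj U)).symm (AlgSp.Points.ofScheme U t) =
      AlgSt.Points.ofChart (K735.SpFp.chart (𝟙 ((AlgSp.yon S).obj U))) t := by
    rw [Equiv.symm_apply_eq, K735.PtsSp.ptsEquiv_ofChart]
  exact congrArg (AlgSt.Points.map (BasedFunctor.comp (toOverCat U) v)) h1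

/-- two points of sheaves over `𝒴` with the same class come from a common field-valued point. -/
theorem exists_common (h𝒴 : FibCat.IsFibGrpd 𝒴.p) (c d : Ch 𝒴) (p : AlgSp.Points c.F) (q : AlgSp.Points d.F)
    (h : cls c p = cls d q) :
    ∃ (Ω : Type u) (_ : Field Ω) (s : Spec (CommRingCat.of Ω) ⟶ S) (y : ofSch (Over.mk s) ⥤ᵇ 𝒴)
      (m : (⟨(AlgSp.yon S).obj (Over.mk s), y⟩ : Ch 𝒴) ⟶ c) (n : (⟨(AlgSp.yon S).obj (Over.mk s), y⟩ : Ch 𝒴) ⟶ d),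
      ∀ τ : AlgSp.Points ((AlgSp.yon S).obj (Over.mk s)), AlgSp.Points.map m.a τ = p ∧ AlgSp.Points.map n.a τ = q := by
  have hc := K735.Rep.isFibGrpd_ofSp c.F
  have hd := K735.Rep.isFibGrpd_ofSp d.F
  obtain ⟨w, hw1, hw2⟩ := K735.Pts.exists_fp hd hc h𝒴 c.x d.x _ _ h
  obtain ⟨K, hK, s, y, hy⟩ := K735.Top.exists_fpt_chart (K735.Fp.isFibGrpd_fp hc hd h𝒴 c.x d.x) w
  let D : Ch (FibCat.fp c.x d.x) := ofChart y
  have hD : ∀ τ : AlgSp.Points ((AlgSp.yon S).obj (Over.mk s)), cls D τ = w := by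
    intro τ
    obtain ⟨t, rfl⟩ := (AlgSp.Points.schemeEquiv (Over.mk s : Over S)).surjective τ
    exact (ofChart_toOverCat y t).trans (hy t)
  let E₁ := (Ch.push (FibCat.fpFst c.x d.x)).obj D
  let E₂ := (Ch.push (FibCat.fpSnd c.x d.x)).obj D
  let m : (Ch.push c.x).obj E₁ ⟶ c := (Ch.push c.x).map E₁.toTop
  let n₂ : (Ch.push d.x).obj E₂ ⟶ d := (Ch.push d.x).map E₂.toTop
  let n : (Ch.push c.x).obj E₁ ⟶ d := Ch.fpγ D ≫ n₂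
  let y' : ofSch (Over.mk s) ⥤ᵇ 𝒴 := BasedFunctor.comp (BasedFunctor.comp (BasedFunctor.comp (toOverCat (Over.mk s)) y)
    (FibCat.fpFst c.x d.x)) c.x
  refine ⟨K, hK, s, y', (show (⟨(AlgSp.yon S).obj (Over.mk s), y'⟩ : Ch 𝒴) ⟶ c from m),
    (show (⟨(AlgSp.yon S).obj (Over.mk s), y'⟩ : Ch 𝒴) ⟶ d from n), fun τ => ⟨?_, ?_⟩⟩
  · apply (K735.PtsSp.ptsEquiv c.F).symm.injective
    rw [← cls_top, ← hw1, ← hD τ]
    exact (cls_map hc E₁.toTop τ).trans (K735.Pts.map_comp D.x (FibCat.fpFst c.x d.x) _)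
  · apply (K735.PtsSp.ptsEquiv d.F).symm.injective
    rw [← cls_top, ← hw2, ← hD τ]
    have h2 : n.a = E₂.toTop.a := Category.id_comp _
    rw [h2]
    exact (cls_map hd E₂.toTop τ).trans (K735.Pts.map_comp D.x (FibCat.fpSnd c.x d.x) _)

/-- `l₁, l₂ : N ⟶ t` is the automorphism sheaf of `t`. -/
structure IsAut {N t : Ch 𝒴} (l₁ l₂ : N ⟶ t) : Prop where
  w : l₁.a = l₂.a
  lift : ∀ (t' : Ch 𝒴) (m₁ m₂ : t' ⟶ t), m₁.a = m₂.a → ∃! l : t' ⟶ N, l ≫ l₁ = m₁ ∧ l ≫ l₂ = m₂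

theorem IsAut.hom_ext {N t : Ch 𝒴} {l₁ l₂ : N ⟶ t} (h : IsAut l₁ l₂) {t' : Ch 𝒴} {a b : t' ⟶ N}
    (h1 : a ≫ l₁ = b ≫ l₁) (h2 : a ≫ l₂ = b ≫ l₂) : a = b :=
  (h.lift t' (b ≫ l₁) (b ≫ l₂) (by change b.a ≫ l₁.a = b.a ≫ l₂.a; rw [h.w])).unique ⟨h1, h2⟩ ⟨rfl, rfl⟩

/-- the fibres of `V ×_𝒴 V ⟶ V × V`. -/
theorem isPullback_pair (h𝒴 : FibCat.IsFibGrpd 𝒴.p) {c e t N : Ch 𝒴} {k₁ k₂ : e ⟶ c} (hk : IsPr k₁ k₂)
    {l₁ l₂ : N ⟶ t} (hl : IsAut l₁ l₂) {n₁ n₂ : t ⟶ c} {u : N ⟶ e} (hu₁ : u ≫ k₁ = l₁ ≫ n₁) (hu₂ : u ≫ k₂ = l₂ ≫ n₂)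
    {W : AlgSp.Sp S} {w₁ w₂ : W ⟶ c.F} (hW : ∀ {T : AlgSp.Sp S} (a b : T ⟶ W), a ≫ w₁ = b ≫ w₁ → a ≫ w₂ = b ≫ w₂ → a = b)
    {j : e.F ⟶ W} (hj₁ : j ≫ w₁ = k₁.a) (hj₂ : j ≫ w₂ = k₂.a) {z : t.F ⟶ W} (hz₁ : z ≫ w₁ = n₁.a) (hz₂ : z ≫ w₂ = n₂.a) :
    IsPullback u.a l₁.a j z := by
  have hu₁a : u.a ≫ k₁.a = l₁.a ≫ n₁.a := congrArg Ch.Hom.a hu₁
  have hu₂a : u.a ≫ k₂.a = l₂.a ≫ n₂.a := congrArg Ch.Hom.a hu₂
  have key : ∀ {T : AlgSp.Sp S} (a : T ⟶ e.F) (b : T ⟶ t.F), a ≫ j = b ≫ z → ∃! m : T ⟶ N.F, m ≫ u.a = a ∧ m ≫ l₁.a = b := by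
    intro T a b hab
    have h1 : b ≫ n₁.a = a ≫ k₁.a := by rw [← hz₁, ← hj₁, ← Category.assoc, ← hab, Category.assoc]
    have h2 : b ≫ n₂.a = a ≫ k₂.a := by rw [← hz₂, ← hj₂, ← Category.assoc, ← hab, Category.assoc]
    obtain ⟨m₁, hm₁, hm₁'⟩ := Ch.exists_lift h𝒴 n₁ (e.resHom a ≫ k₁) b h1
    obtain ⟨m₂, hm₂, hm₂'⟩ := Ch.exists_lift h𝒴 n₂ (e.resHom a ≫ k₂) b h2
    obtain ⟨l, ⟨hl₁, hl₂⟩, hl₃⟩ := hl.lift _ m₁ m₂ (hm₁.trans hm₂.symm)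
    have hlu : l ≫ u = e.resHom a := by
      apply hk.hom_ext
      · rw [Category.assoc, hu₁, ← Category.assoc, hl₁, hm₁']
      · rw [Category.assoc, hu₂, ← Category.assoc, hl₂, hm₂']
    refine ⟨l.a, ⟨congrArg Ch.Hom.a hlu, (congrArg Ch.Hom.a hl₁).trans hm₁⟩, fun m hm => ?_⟩
    obtain ⟨l', hl', hl''⟩ := Ch.exists_lift h𝒴 u (e.resHom a) m hm.1
    rw [← hl']
    congr 1
    refine hl₃ l' ⟨?_, ?_⟩
    · refine Ch.lift_unique h𝒴 n₁ ?_ ?_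
      · change l'.a ≫ l₁.a = m₁.a
        rw [hl', hm.2, hm₁]
      · rw [Category.assoc, ← hu₁, ← Category.assoc, hl'', hm₁']
    · refine Ch.lift_unique h𝒴 n₂ ?_ ?_
      · change l'.a ≫ l₂.a = m₂.a
        rw [hl', ← hl.w, hm.2, hm₂]
      · rw [Category.assoc, ← hu₂, ← Category.assoc, hl'', hm₂']
  refine ⟨⟨?_⟩, ⟨PullbackCone.IsLimit.mk _ (fun s => (key s.fst s.snd s.condition).choose)
    (fun s => (key s.fst s.snd s.condition).choose_spec.1.1) (fun s => (key s.fst s.snd s.condition).choose_spec.1.2)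
    fun s m h1 h2 => (key s.fst s.snd s.condition).choose_spec.2 m ⟨h1, h2⟩⟩⟩
  apply hW
  · rw [Category.assoc, hj₁, Category.assoc, hz₁, hu₁a]
  · rw [Category.assoc, hj₂, Category.assoc, hz₂, hu₂a, hl.w]

/-- base change of automorphism sheaves. -/
theorem IsAut.isPullback (h𝒴 : FibCat.IsFibGrpd 𝒴.p) {t N t' N' : Ch 𝒴} {l₁ l₂ : N ⟶ t} (hl : IsAut l₁ l₂)
    {l₁' l₂' : N' ⟶ t'} (hl' : IsAut l₁' l₂') (g : t ⟶ t') {y : N ⟶ N'} (hy₁ : y ≫ l₁' = l₁ ≫ g) (hy₂ : y ≫ l₂' = l₂ ≫ g) :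
    IsPullback y.a l₁.a l₁'.a g.a := by
  have hy₁a : y.a ≫ l₁'.a = l₁.a ≫ g.a := congrArg Ch.Hom.a hy₁
  have key : ∀ {T : AlgSp.Sp S} (a : T ⟶ N'.F) (b : T ⟶ t.F), a ≫ l₁'.a = b ≫ g.a →
      ∃! m : T ⟶ N.F, m ≫ y.a = a ∧ m ≫ l₁.a = b := by
    intro T a b hab
    obtain ⟨m₁, hm₁, hm₁'⟩ := Ch.exists_lift h𝒴 g (N'.resHom a ≫ l₁') b hab.symm
    obtain ⟨m₂, hm₂, hm₂'⟩ := Ch.exists_lift h𝒴 g (N'.resHom a ≫ l₂') b (by
      change _ = a ≫ l₂'.a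
      rw [← hl'.w, hab])
    obtain ⟨l, ⟨hl₁, hl₂⟩, hl₃⟩ := hl.lift _ m₁ m₂ (hm₁.trans hm₂.symm)
    have hlu : l ≫ y = N'.resHom a := by
      apply hl'.hom_ext
      · rw [Category.assoc, hy₁, ← Category.assoc, hl₁, hm₁']
      · rw [Category.assoc, hy₂, ← Category.assoc, hl₂, hm₂']
    refine ⟨l.a, ⟨congrArg Ch.Hom.a hlu, (congrArg Ch.Hom.a hl₁).trans hm₁⟩, fun m hm => ?_⟩
    obtain ⟨l', hl', hl''⟩ := Ch.exists_lift h𝒴 y (N'.resHom a) m hm.1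
    rw [← hl']
    congr 1
    refine hl₃ l' ⟨?_, ?_⟩
    · refine Ch.lift_unique h𝒴 g ?_ ?_
      · change l'.a ≫ l₁.a = m₁.a
        rw [hl', hm.2, hm₁]
      · rw [Category.assoc, ← hy₁, ← Category.assoc, hl'', hm₁']
    · refine Ch.lift_unique h𝒴 g ?_ ?_
      · change l'.a ≫ l₂.a = m₂.a
        rw [hl', ← hl.w, hm.2, hm₂]
      · rw [Category.assoc, ← hy₂, ← Category.assoc, hl'', hm₂']
  exact ⟨⟨hy₁a⟩, ⟨PullbackCone.IsLimit.mk _ (fun s => (key s.fst s.snd s.condition).choose)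
    (fun s => (key s.fst s.snd s.condition).choose_spec.1.1) (fun s => (key s.fst s.snd s.condition).choose_spec.1.2)
    fun s m h1 h2 => (key s.fst s.snd s.condition).choose_spec.2 m ⟨h1, h2⟩⟩⟩

end K894.DimGpd
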