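import Groth.Agent.StMod.K894.DimGpd

/-!
# Dimension theory of the groupoid of a chart of a stack, 2

* `exists_isAut`: automorphism sheaves exist and are algebraic spaces.
* `hasAtMor_pair_iff`: a property of the fibres of `V ×_𝒴 V ⟶ V × V` at a point depends on the class of the point in `|𝒴|`.
* `hasAtMor_fst_iff`: a property of the fibres of the first projection depends on the image under the second projection.
* `hasAtMor_pair_aut_iff`: comparison with the automorphism sheaf of a point.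
-/

set_option autoImplicit false
set_option backward.isDefEq.respectTransparency false
set_option backward.isDefEq.respectTransparency.types false

universe u

open CategoryTheory CategoryTheory.Limits AlgebraicGeometry Opposite
open AlgSt K741

namespace K894.DimGpd

variable {S : Scheme.{u}}

theorem selfOver_eq {a b : (FibCat.selfOver (Over S)).obj} {φ ψ : a ⟶ b}
    (h1 : K735.Fib.Vert (FibCat.selfOver (Over S)).p φ) (h2 : K735.Fib.Vert (FibCat.selfOver (Over S)).p ψ) : φ = ψ := by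
  have e1 : (FibCat.selfOver (Over S)).p.map φ = (FibCat.selfOver (Over S)).p.map ψ := h1.map_eq.trans h2.map_eq.symm
  exact e1

theorem push_toSelf_eq {𝒴 : AlgSt.Cat S} {c d : Ch 𝒴} {m₁ m₂ : c ⟶ d} (h : m₁.a = m₂.a) :
    (Ch.push (FibCat.toSelf 𝒴)).map m₁ = (Ch.push (FibCat.toSelf 𝒴)).map m₂ := by
  refine Ch.hom_ext h fun o => selfOver_eq ?_ ?_
  · refine K735.Fib.Vert.comp (K735.Fib.vert_app ((Ch.push (FibCat.toSelf 𝒴)).map m₁).α o)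
      (K735.Fib.Vert.map ((Ch.push (FibCat.toSelf 𝒴)).obj d).x ?_)
    exact K735.Fib.vert_of_map_eq rfl rfl
  · exact K735.Fib.vert_app ((Ch.push (FibCat.toSelf 𝒴)).map m₂).α o

/-- automorphism sheaves exist and are algebraic spaces. -/
theorem exists_isAut {𝒴 : AlgSt.Cat S} (h𝒴 : FibCat.IsFibGrpd 𝒴.p)
    (hΔ : RepByAlgSp1 (FibCat.diag (FibCat.toSelf 𝒴))) (t : Ch 𝒴) (ht : AlgSp.IsAlgSpace t.F) :
    ∃ (N : Ch 𝒴) (l₁ l₂ : N ⟶ t), IsAut l₁ l₂ ∧ AlgSp.IsAlgSpace N.F := by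
  obtain ⟨e, k₁, k₂, h1, h2⟩ := exists_isEq₁ h𝒴 K735.Fp.isFibGrpd_selfOver hΔ
    (𝟙 ((Ch.push (FibCat.toSelf 𝒴)).obj t)) ht
  refine ⟨e, k₁, k₂, ⟨?_, fun t' m₁ m₂ hm => ?_⟩, h2⟩
  · have := h1.w_a
    rw [Ch.id_a] at this
    exact (Category.comp_id _).symm.trans this
  · obtain ⟨l, hl₁, hl₂⟩ := h1.exists_lift m₁ m₂ (by rw [Category.comp_id]; exact push_toSelf_eq hm)
    exact ⟨l, ⟨hl₁, hl₂⟩, fun l' hl' => h1.hom_ext (hl'.1.trans hl₁.symm) (hl'.2.trans hl₂.symm)⟩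

variable {Q : ∀ (U V : Scheme.{u}), (U ⟶ V) → ↥U → Prop}

/-- comparison of the fibre of `V ×_𝒴 V ⟶ V × V` with the automorphism sheaf of a point. -/
theorem hasAtMor_pair_aut_iff (hQ : K609.GpdDim.BCInv Q) {𝒴 : AlgSt.Cat S} (h𝒴 : FibCat.IsFibGrpd 𝒴.p)
    (hΔ : RepByAlgSp1 (FibCat.diag (FibCat.toSelf 𝒴))) {c e : Ch 𝒴} {k₁ k₂ : e ⟶ c} (hk : IsPr k₁ k₂)
    {W : AlgSp.Sp S} {w₁ w₂ : W ⟶ c.F} (hW : ∀ {T : AlgSp.Sp S} (a b : T ⟶ W), a ≫ w₁ = b ≫ w₁ → a ≫ w₂ = b ≫ w₂ → a = b)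
    {j : e.F ⟶ W} (hj₁ : j ≫ w₁ = k₁.a) (hj₂ : j ≫ w₂ = k₂.a) (he : AlgSp.IsAlgSpace e.F) (hWs : AlgSp.IsAlgSpace W)
    (hj : AlgSp.LocP @LocallyOfFiniteType j)
    {t' N' : Ch 𝒴} {l₁' l₂' : N' ⟶ t'} (hl' : IsAut l₁' l₂') (ht' : AlgSp.IsAlgSpace t'.F) (hN' : AlgSp.IsAlgSpace N'.F)
    (hl'f : AlgSp.LocP @LocallyOfFiniteType l₁'.a)
    (p : AlgSp.Points e.F) (q : AlgSp.Points t'.F) (h : cls e p = cls t' q) (o' : t' ⟶ N')
    (ho' : o' ≫ l₁' = 𝟙 t') (ho'' : o' ≫ l₂' = 𝟙 t') :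
    AlgSp.HasAtMor Q j p ↔ AlgSp.HasAtMor Q l₁'.a (AlgSp.Points.map o'.a q) := by
  obtain ⟨Ω, _, s, y, m, n, hmn⟩ := exists_common h𝒴 e t' p q h
  let t : Ch 𝒴 := ⟨(AlgSp.yon S).obj (Over.mk s), y⟩
  have ht : AlgSp.IsAlgSpace t.F := AlgSp.IsAlgSpace.yon_obj _
  let τ : AlgSp.Points t.F := AlgSp.Points.ofScheme (Over.mk s) (IsLocalRing.closedPoint Ω)
  obtain ⟨h1, h2⟩ := hmn τ
  obtain ⟨N, l₁, l₂, hl, hN⟩ := exists_isAut h𝒴 hΔ t ht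
  obtain ⟨u, ⟨hu₁, hu₂⟩, -⟩ := hk N (l₁ ≫ m ≫ k₁) (l₂ ≫ m ≫ k₂)
  have sq := isPullback_pair h𝒴 hk hl (n₁ := m ≫ k₁) (n₂ := m ≫ k₂) hu₁ hu₂ hW hj₁ hj₂ (z := m.a ≫ j)
    (by rw [Category.assoc, hj₁]; rfl) (by rw [Category.assoc, hj₂]; rfl)
  obtain ⟨y', ⟨hy₁, hy₂⟩, -⟩ := hl'.lift N (l₁ ≫ n) (l₂ ≫ n) (by
    change l₁.a ≫ n.a = l₂.a ≫ n.a
    rw [hl.w])
  have sq' := hl.isPullback h𝒴 hl' n hy₁ hy₂
  obtain ⟨o, ⟨ho₁, ho₂⟩, -⟩ := hl.lift t (𝟙 t) (𝟙 t) rfl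
  have hou : o ≫ u = m := by
    apply hk.hom_ext
    · rw [Category.assoc, hu₁, ← Category.assoc, ho₁, Category.id_comp]
    · rw [Category.assoc, hu₂, ← Category.assoc, ho₂, Category.id_comp]
  have hoy : o ≫ y' = n ≫ o' := by
    apply hl'.hom_ext
    · rw [Category.assoc, hy₁, ← Category.assoc, ho₁, Category.id_comp, Category.assoc, ho', Category.comp_id]
    · rw [Category.assoc, hy₂, ← Category.assoc, ho₂, Category.id_comp, Category.assoc, ho'', Category.comp_id]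
  have e1 : AlgSp.Points.map u.a (AlgSp.Points.map o.a τ) = p := by
    rw [← AlgSp.Points.map_comp, ← h1]
    exact congrArg (fun z => AlgSp.Points.map (Ch.Hom.a z) τ) hou
  have e2 : AlgSp.Points.map y'.a (AlgSp.Points.map o.a τ) = AlgSp.Points.map o'.a q := by
    rw [← AlgSp.Points.map_comp, ← h2, ← AlgSp.Points.map_comp]
    exact congrArg (fun z => AlgSp.Points.map (Ch.Hom.a z) τ) hoy
  rw [← e1, ← e2, K609.GpdDim.hasAtMor_bc hQ he hWs ht hN sq hj, K609.GpdDim.hasAtMor_bc hQ hN' ht' ht hN sq' hl'f]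

/-- a property of the fibres of `V ×_𝒴 V ⟶ V × V` at a point depends on the class of the point in `|𝒴|`. -/
theorem hasAtMor_pair_iff (hQ : K609.GpdDim.BCInv Q) {𝒴 : AlgSt.Cat S} (h𝒴 : FibCat.IsFibGrpd 𝒴.p)
    (hΔ : RepByAlgSp1 (FibCat.diag (FibCat.toSelf 𝒴))) {c e : Ch 𝒴} {k₁ k₂ : e ⟶ c} (hk : IsPr k₁ k₂)
    {W : AlgSp.Sp S} {w₁ w₂ : W ⟶ c.F} (hW : ∀ {T : AlgSp.Sp S} (a b : T ⟶ W), a ≫ w₁ = b ≫ w₁ → a ≫ w₂ = b ≫ w₂ → a = b)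
    {j : e.F ⟶ W} (hj₁ : j ≫ w₁ = k₁.a) (hj₂ : j ≫ w₂ = k₂.a) (he : AlgSp.IsAlgSpace e.F) (hWs : AlgSp.IsAlgSpace W)
    (hj : AlgSp.LocP @LocallyOfFiniteType j) (p q : AlgSp.Points e.F) (h : cls e p = cls e q) :
    AlgSp.HasAtMor Q j p ↔ AlgSp.HasAtMor Q j q := by
  obtain ⟨Ω, _, s, y, m, n, hmn⟩ := exists_common h𝒴 e e p q h
  let t : Ch 𝒴 := ⟨(AlgSp.yon S).obj (Over.mk s), y⟩
  have ht : AlgSp.IsAlgSpace t.F := AlgSp.IsAlgSpace.yon_obj _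
  let τ : AlgSp.Points t.F := AlgSp.Points.ofScheme (Over.mk s) (IsLocalRing.closedPoint Ω)
  obtain ⟨h1, h2⟩ := hmn τ
  obtain ⟨N, l₁, l₂, hl, hN⟩ := exists_isAut h𝒴 hΔ t ht
  obtain ⟨o, ⟨ho₁, ho₂⟩, -⟩ := hl.lift t (𝟙 t) (𝟙 t) rfl
  have key : ∀ (m : t ⟶ e), AlgSp.HasAtMor Q j (AlgSp.Points.map m.a τ) ↔ AlgSp.HasAtMor Q l₁.a (AlgSp.Points.map o.a τ) := by
    intro m
    obtain ⟨u, ⟨hu₁, hu₂⟩, -⟩ := hk N (l₁ ≫ m ≫ k₁) (l₂ ≫ m ≫ k₂)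
    have sq := isPullback_pair h𝒴 hk hl (n₁ := m ≫ k₁) (n₂ := m ≫ k₂) hu₁ hu₂ hW hj₁ hj₂ (z := m.a ≫ j)
      (by rw [Category.assoc, hj₁]; rfl) (by rw [Category.assoc, hj₂]; rfl)
    have hou : o ≫ u = m := by
      apply hk.hom_ext
      · rw [Category.assoc, hu₁, ← Category.assoc, ho₁, Category.id_comp]
      · rw [Category.assoc, hu₂, ← Category.assoc, ho₂, Category.id_comp]
    have e1 : AlgSp.Points.map u.a (AlgSp.Points.map o.a τ) = AlgSp.Points.map m.a τ := by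
      rw [← AlgSp.Points.map_comp]
      exact congrArg (fun z => AlgSp.Points.map (Ch.Hom.a z) τ) hou
    rw [← e1, K609.GpdDim.hasAtMor_bc hQ he hWs ht hN sq hj]
  rw [← h1, ← h2, key m, key n]

/-- a property of the fibres of the first projection depends on the image under the second projection. -/
theorem hasAtMor_fst_iff (hQ : K609.GpdDim.BCInv Q) {𝒴 : AlgSt.Cat S} (h𝒴 : FibCat.IsFibGrpd 𝒴.p)
    {c e : Ch 𝒴} {k₁ k₂ : e ⟶ c} (hk : IsPr k₁ k₂) (hc : AlgSp.IsAlgSpace c.F) (he : AlgSp.IsAlgSpace e.F)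
    (hf : AlgSp.LocP @LocallyOfFiniteType k₁.a) (p q : AlgSp.Points e.F)
    (h : AlgSp.Points.map k₂.a p = AlgSp.Points.map k₂.a q) :
    AlgSp.HasAtMor Q k₁.a p ↔ AlgSp.HasAtMor Q k₁.a q := by
  obtain ⟨z, hz1, hz2⟩ := K609.Points.exists_of_isPullback (IsPullback.of_hasPullback k₂.a k₂.a) p q h
  obtain ⟨z₀, rfl⟩ := AlgSp.Points.mk_surjective z
  let T : AlgSp.Sp S := (AlgSp.yon S).obj z₀.pt
  have hT : AlgSp.IsAlgSpace T := AlgSp.IsAlgSpace.yon_obj _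
  let ρ : T ⟶ e.F := z₀.toHom ≫ pullback.fst k₂.a k₂.a
  let ρ' : T ⟶ e.F := z₀.toHom ≫ pullback.snd k₂.a k₂.a
  have hρ : ρ ≫ k₂.a = ρ' ≫ k₂.a := by
    change (z₀.toHom ≫ _) ≫ _ = (z₀.toHom ≫ _) ≫ _
    rw [Category.assoc, Category.assoc, pullback.condition]
  let t : Ch 𝒴 := e.res ρ
  let m : t ⟶ e := e.resHom ρ
  obtain ⟨m', hm', hm'k⟩ := Ch.exists_lift h𝒴 k₂ (m ≫ k₂) ρ' hρ.symm
  obtain ⟨e', i, l₁', k, h1, h2, h3, h4⟩ := hk.exists_base (Ch.spFib h𝒴) (m ≫ k₁)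
    (IsPullback.of_hasPullback k₁.a (m ≫ k₁).a)
  have sq : IsPullback k.a l₁'.a k₁.a (m ≫ k₁).a := hk.isPullback (Ch.spFib h𝒴) h1 h4
  have he' : AlgSp.IsAlgSpace e'.F := K613.Chart.isAlgSpace_of_isPullback hc.diag he hT sq
  obtain ⟨u', ⟨hu₁, hu₂⟩, -⟩ := hk e' (l₁' ≫ m' ≫ k₁) (k ≫ k₂)
  have sq' : IsPullback u'.a l₁'.a k₁.a (m' ≫ k₁).a :=
    hk.isPullback (Ch.spFib h𝒴) hu₁.symm (by rw [hu₂]; exact h4)
  obtain ⟨o, ⟨ho₁, ho₂⟩, -⟩ := h4 t (𝟙 t) (m ≫ k₂)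
  have hok : o ≫ k = m := by
    apply hk.hom_ext
    · rw [Category.assoc, ← h1, ← Category.assoc, ho₁, Category.id_comp]
    · rw [Category.assoc, ho₂]
  have hou : o ≫ u' = m' := by
    apply hk.hom_ext
    · rw [Category.assoc, hu₁, ← Category.assoc, ho₁, Category.id_comp]
    · rw [Category.assoc, hu₂, ho₂, hm'k]
  have hpt : ∀ τ : AlgSp.Points T, AlgSp.Points.map z₀.toHom τ = AlgSp.Points.mk z₀ → 
      (AlgSp.HasAtMor Q k₁.a p ↔ AlgSp.HasAtMor Q k₁.a q) := by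
    intro τ hτ
    have e1 : AlgSp.Points.map k.a (AlgSp.Points.map o.a τ) = p := by
      rw [← AlgSp.Points.map_comp, ← hz1, ← hτ, ← AlgSp.Points.map_comp]
      exact congrArg (fun z => AlgSp.Points.map (Ch.Hom.a z) τ) hok
    have e2 : AlgSp.Points.map u'.a (AlgSp.Points.map o.a τ) = q := by
      rw [← AlgSp.Points.map_comp, ← hz2, ← hτ, ← AlgSp.Points.map_comp]
      have h5 : (o ≫ u').a = ρ' := (congrArg Ch.Hom.a hou).trans hm'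
      exact congrArg (fun z => AlgSp.Points.map z τ) h5
    rw [← e1, ← e2, K609.GpdDim.hasAtMor_bc hQ he hc hT he' sq hf, K609.GpdDim.hasAtMor_bc hQ he hc hT he' sq' hf]
  exact hpt (AlgSp.Points.ofScheme z₀.pt (IsLocalRing.closedPoint z₀.K)) ((AlgSp.Points.ofPt_eq_map_ofScheme z₀.toHom _).symm.trans
    (AlgSp.Points.ofPt_toHom z₀ (IsLocalRing.closedPoint z₀.K)))

end K894.DimGpd
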