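import Groth.Agent.StMod.K907.UnitBC
import Groth.Agent.StMod.K907.FibTerm
import Groth.Agent.StMod.K906.AffFp
import Groth.Agent.StMod.K906.PresQc
import Groth.Agent.StMod.K906.SpGeo
import Groth.Agent.StMod.K906.UnitLoc
import Groth.Agent.Gerb.K894.ResG
import Groth.Agent.AlgSt.K736.Prod
import Groth.Agent.AlgSt.K736.Fam
import Groth.Agent.AlgSt.K738.RepSep
import Groth.Agent.AlgSt.K739.Props
import Groth.Agent.AlgSt.K745.MonoLqf
import Groth.Agent.S9912
import Groth.Agent.S9915
import Groth.Agent.S12945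
import Groth.Agent.S12981
import Groth.Agent.AlgSp.K613.LqfAff
import Groth.Agent.AlgSp.K594.Quot
import Groth.Agent.S10180
import Groth.Agent.S10606

/-!
# Serre's criterion for monomorphisms to affine schemes

`exists_affine_of_exact`: an algebraic space `W` with a monomorphism to an affine scheme, quasi-compact, on which global
sections of quasi-coherent modules (on the category `ofSp W` over `(Sch/S)`) are exact, is an affine scheme.
-/

set_option autoImplicit false
set_option linter.unusedVariables false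
set_option linter.style.haveILetI false
set_option backward.isDefEq.respectTransparency false
set_option backward.isDefEq.respectTransparency.types false

universe u

open CategoryTheory CategoryTheory.Limits AlgebraicGeometry Opposite StMod AlgSt AlgSp

namespace K894.SerreMono

open K906 K906.SpGeo K907.Sec

variable {S : Scheme.{u}}

/-- The object of `ofSp F` of a map `h_T ⟶ F`. -/
noncomputable def objOf {F : Sp S} {T : Over S} (a : (yon S).obj T ⟶ F) : (ofSp F).obj :=
  ⟨T, (J S).uliftYonedaEquiv a⟩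

theorem toMap_objOf {F : Sp S} {T : Over S} (a : (yon S).obj T ⟶ F) : toMap (objOf a) = a := toMap_mk a

@[simp] theorem objOf_base {F : Sp S} {T : Over S} (a : (yon S).obj T ⟶ F) : (objOf a).base = T := rfl

theorem sch_ofSp {F : Sp S} (x : (ofSp F).obj) : sch (ofSp F) x = x.base.left := rfl

/-- The base morphism of an arrow `z x ⟶ η`. -/
theorem baseOver_ofSpMap {F G : Sp S} (z : F ⟶ G) (x : (ofSp F).obj) {η : (ofSp G).obj} (α : (ofSpMap z).obj x ⟶ η) :
    baseOver (ofSpMap z) x α = α.hom := by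
  unfold baseOver
  exact Category.id_comp _

section Unit

variable {W : Sp S} {Z V R : Over S} {s t : R ⟶ V} {q : V ⟶ Z} {a : (yon S).obj V ⟶ W} {z : W ⟶ (yon S).obj Z}

/-- An étale surjection covers. -/
theorem covers_of_etale {G : Sp S} (ha : RepWith @Etale a) (ha' : RepWith @Surjective a) {g : W ⟶ G} {η : (ofSp G).obj}
    (α : (ofSpMap g).obj (objOf a) ⟶ η) (hα : ∀ {T : Over S} (b b' : T ⟶ η.base), (yon S).map b ≫ toMap η =
      (yon S).map b' ≫ toMap η → b = b') :
    Sect.Covers (π := ofSpMap g) (η := η) (fun _ : PUnit.{1} => (⟨objOf a, α⟩ : FObj (ofSpMap g) η)) := by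
  intro z hz
  have hz' : IsAffine (FObj.pt z).base.left := hz
  obtain ⟨T₁, fst, v, sq, hv⟩ := K597.exists_sq ha (toMap (FObj.pt z))
  obtain ⟨e, rfl⟩ := (yon S).map_surjective fst
  have hv' : Surjective v.left := ha'.2 _ _ _ sq
  obtain ⟨T₂, j, hT₂, hj, hjs⟩ := SchFac.exists_affine_refine v.left (by
    have : Etale v.left := hv
    exact v.left.isOpenMap) hv'
  let j' : Over.mk (j ≫ T₁.hom) ⟶ T₁ := Over.homMk j rfl
  let y : (ofSp W).obj := objOf ((yon S).map (j' ≫ v) ≫ toMap (FObj.pt z))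
  let f : y ⟶ FObj.pt z := homMk (j' ≫ v) (toMap_objOf _).symm
  let d : y ⟶ objOf a := homMk (j' ≫ e) (by
    rw [toMap_objOf, toMap_objOf, Functor.map_comp, Functor.map_comp, Category.assoc, Category.assoc, sq.w])
  let z' : FObj (ofSpMap g) η := ⟨y, (ofSpMap g).map f ≫ FObj.arr z⟩
  have hd : (ofSpMap g).map d ≫ α = (ofSpMap g).map f ≫ FObj.arr z := by
    apply Stk.EltObj.hom_ext
    apply hα
    rw [toMap_comp, toMap_comp]
  refine ⟨z', FObj.mkHom f rfl, PUnit.unit, FObj.mkHom d hd, hT₂, ⟨?_, hjs⟩⟩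
  change Flat (j ≫ v.left)
  have : Etale v.left := hv
  infer_instance

/-- The final object of `ofSp h_Z`. -/
noncomputable abbrev eta0 (Z : Over S) : (ofSp ((yon S).obj Z)).obj := objOf (𝟙 ((yon S).obj Z))

theorem toMap_eta0 (Z : Over S) : toMap (eta0 Z) = 𝟙 _ := toMap_mk _

theorem exists_to_eta0 (x : (ofSp ((yon S).obj Z)).obj) : Nonempty (x ⟶ eta0 Z) := by
  obtain ⟨b, hb⟩ := (yon S).map_surjective (toMap x)
  exact ⟨homMk b (by rw [toMap_eta0, Category.comp_id, hb])⟩

theorem eta0_inj {T : Over S} (b b' : T ⟶ (eta0 Z).base) (h : (yon S).map b ≫ toMap (eta0 Z) = (yon S).map b' ≫ toMap (eta0 Z)) :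
    b = b' := by
  rw [toMap_eta0, Category.comp_id, Category.comp_id] at h
  exact (yon S).map_injective h

theorem to_eta0_ext {x : (ofSp ((yon S).obj Z)).obj} (f f' : x ⟶ eta0 Z) : f = f' := by
  apply Stk.EltObj.hom_ext
  apply eta0_inj
  rw [toMap_comp, toMap_comp]

/-- The unit over the final object. -/
theorem bijective_unitSect_eta0 (hfe : K613.FE s.left t.left q.left) (haz : a ≫ z = (yon S).map q)
    (hst : (yon S).map s ≫ a = (yon S).map t ≫ a) (ha : RepWith @Etale a) (ha' : RepWith @Surjective a)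
    (hV : IsAffine V.left) : Function.Bijective (unitSect (ofSpMap z) (eta0 Z)) := by
  have e1 : toMap ((ofSpMap z).obj (objOf a)) = (yon S).map q := by
    have e2 : toMap ((ofSpMap z).obj (objOf a)) = toMap (objOf a) ≫ z := toMap_ofSpMap z (objOf a)
    rw [e2, toMap_objOf, haz]
  let α : (ofSpMap z).obj (objOf a) ⟶ eta0 Z := homMk q
    ((congrArg (fun k => (yon S).map q ≫ k) (toMap_eta0 Z)).trans ((Category.comp_id _).trans e1.symm))
  have hα : α.hom = q := rfl
  have hcov := covers_of_etale (g := z) ha ha' α (fun b b' h => eta0_inj b b' h)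
  have hgr : FibCat.IsFibGrpd (ofSp W).p := K907.FibTerm.isFibGrpd_ofSp
  have hval : ∀ r, (unitSect (ofSpMap z) (eta0 Z) r).1 (objOf a) α = q.left.appTop r := by
    intro r
    rw [unitSect_val, baseOver_ofSpMap]
    rfl
  constructor
  · intro r r' h
    apply hfe.inj
    have h1 := congrArg (fun k => k.1 (objOf a) α) h
    rw [hval, hval] at h1
    exact h1
  · intro x
    obtain ⟨r, hr⟩ := hfe.surj (x.1 (objOf a) α) (by
      let ρ : (ofSp W).obj := objOf ((yon S).map s ≫ a)
      let f : ρ ⟶ objOf a := homMk s (by rw [toMap_objOf, toMap_objOf])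
      let f' : ρ ⟶ objOf a := homMk t (by rw [toMap_objOf, toMap_objOf, hst])
      have h1 := x.2 f α
      have h2 := x.2 f' α
      have h3 : (ofSpMap z).map f ≫ α = (ofSpMap z).map f' ≫ α := to_eta0_ext _ _
      rw [h3] at h1
      exact h1.trans h2.symm)
    refine ⟨r, ?_⟩
    refine Sect.relSect_ext_of_covers hgr (OQ (ofSp W)) hcov fun _ => ?_
    exact (hval r).trans hr

/-- `fibCat z η ⥤ᵇ ofSp W` is affine for `η` final. -/
theorem isAff_fibPt_eta0 (z : W ⟶ (yon S).obj Z) : K908.Aff.IsAff (fibPt (ofSpMap z) (eta0 Z)) := by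
  intro ξ hξ
  obtain ⟨α⟩ := exists_to_eta0 ((ofSpMap z).obj ξ)
  refine ⟨⟨ξ, α⟩, 𝟙 ξ, hξ, ?_⟩
  intro θ β
  refine ⟨FObj.mkHom β (to_eta0_ext _ _), ?_, ?_⟩
  · exact Category.comp_id β
  · intro χ hχ
    apply FObj.hom_ext
    refine Eq.trans ?_ hχ
    exact (Category.comp_id _).symm

/-- The unit of `z` over every object. -/
theorem bijective_unitSect (hex : K906.Exact (ofSp W)) (hZ : IsAffine Z.left) (hP : Nonempty (Pres (K906.fibCat (ofSpMap z) (eta0 Z))))
    (h0 : Function.Bijective (unitSect (ofSpMap z) (eta0 Z))) (η : (ofSp ((yon S).obj Z)).obj) :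
    Function.Bijective (unitSect (ofSpMap z) η) := by
  have hW : FibCat.IsFibGrpd (ofSp W).p := K907.FibTerm.isFibGrpd_ofSp
  have hZf : FibCat.IsFibGrpd (ofSp ((yon S).obj Z)).p := K907.FibTerm.isFibGrpd_ofSp
  have hex' : K906.Exact (K906.fibCat (ofSpMap z) (eta0 Z)) :=
    AffFp.exact_of_isAff hW (isFibGrpd_fibCat hW) (isAff_fibPt_eta0 z) hex
  obtain ⟨P⟩ := hP
  refine UnitLoc.bijective_unitSect_of_charts hW hZf fun η₁ g₁ hη₁ _ => ?_
  obtain ⟨κ⟩ := exists_to_eta0 η₁
  exact K907.UnitBC.bijective_unitSect_of_affine κ hW hZf hZ hη₁ hex' P h0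

/-- `z` is an isomorphism if its unit is injective everywhere. -/
theorem isIso_of_injective (hW : IsAlgSpace W) [Mono z] (hqc : AlgSp.IsQuasiCompactMor z)
    (h : ∀ η, Function.Injective (unitSect (ofSpMap z) η)) : IsIso z := by
  let X : Space S := ⟨W, hW⟩
  let Y : Space S := ⟨(yon S).obj Z, IsAlgSpace.yon_obj Z⟩
  let f : X ⟶ Y := ObjectProperty.homMk z
  have hm : Mono f.hom := ‹Mono z›
  refine Groth.Agent.S10606.result f hqc fun T g P fst snd sq r hr => ?_
  have hT : toMap (objOf g) = g := toMap_objOf g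
  apply h (objOf g)
  rw [map_zero]
  apply Mod.RelSect.ext
  intro ξ α
  rw [unitSect_val, baseOver_ofSpMap, Mod.RelSect.zero_val]
  have e1 : (yon S).map α.hom ≫ toMap (objOf g) = toMap ξ ≫ z := (toMap_comp α).trans (toMap_ofSpMap z ξ)
  rw [hT] at e1
  exact hr ξ.base (sq.lift (toMap ξ) ((yon S).map α.hom) e1.symm) α.hom (sq.lift_snd _ _ _)

end Unit

/-- Affine presentations for a quasi-compact monomorphism. -/
theorem nonempty_pres_of_mono {W G : Sp S} (hW : IsAlgSpace W) (hG : IsAlgSpace G) (z : W ⟶ G) [Mono z]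
    (hqc : AlgSp.IsQuasiCompactMor z) {η : (ofSp G).obj} (hη : IsAffine (sch (ofSp G) η)) :
    Nonempty (Pres (K906.fibCat (ofSpMap z) η)) := by
  have hWs : IsAlgStack Scheme.fppfPrecoverage (ofSp W) := K740.SpDM.isAlgStack_ofSp hW
  have hGs : IsAlgStack Scheme.fppfPrecoverage (ofSp G) := K740.SpDM.isAlgStack_ofSp hG
  have hm : AlgSt.IsMono (ofSpMap z) := K894.ResG.isMono_ofSpMap hW hG z
  have h1 : AlgSt.RepByAlgSp1 (ofSpMap z) := K738.repByAlgSp1_of hm
  have h2 : AlgSt.RepByAlgSpWith AlgSp.IsQuasiSeparatedMor (ofSpMap z) := K738.repByAlgSpWith_mono hm fun q hq => by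
    have : Mono q := hq
    exact K739.Props.qs_of_sep (K745.MonoLqf.isSeparatedMor_of_mono q)
  have h3 : AlgSt.RepByAlgSpWith AlgSp.IsQuasiCompactMor (ofSpMap z) := by
    refine K740.SpDM.repByAlgSpWith_ofSpMap z fun V η => ?_
    have sq := IsPullback.of_hasPullback η z
    refine ⟨_, _, _, K741.isAlgSpace_bc (AlgSp.IsAlgSpace.yon_obj V) hW hG sq, sq, ?_⟩
    intro Y Y' hY hYc g fst snd sq'
    exact hqc hY hYc (g ≫ η) (fst ≫ pullback.snd η z) snd (sq'.paste_horiz sq.flip)
  exact K906.nonempty_pres hWs.isStack.1 hGs.isStack.1 K744.AlgOver.isAlgStack_overCat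
    ((Groth.Agent.S12981.result S _ _ hWs hGs _ h1).1 h3) ((Groth.Agent.S12945.result S _ _ hWs hGs _ h1).2 h2) hη

/-- SERRE'S CRITERION for monomorphisms to affine schemes. -/
theorem exists_affine_of_exact {W : Sp S} (hW : IsAlgSpace W) {U : Over S} (hU : IsAffine U.left)
    (w : W ⟶ (yon S).obj U) [Mono w] (hc : IsQuasiCompactSp W) (hex : K906.Exact (ofSp W)) :
    ∃ T : Over S, IsAffine T.left ∧ Nonempty (W ≅ (yon S).obj T) := by
  obtain ⟨V, a, hV, hae, has⟩ := (Groth.Agent.S10180.result ⟨W, hW⟩).1 hc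
  obtain ⟨c, hcw⟩ := (yon S).map_surjective (a ≫ w)
  let R : Over S := pullback c c
  let s : R ⟶ V := pullback.fst c c
  let t : R ⟶ V := pullback.snd c c
  have sqR : IsPullback s t c c := IsPullback.of_hasPullback c c
  have hR : IsAffine R.left := SchFac.isAffine_of_isPullback (sqR.map (Over.forget S)) hV hV hU
  have sq1 : IsPullback ((yon S).map s) ((yon S).map t) (a ≫ w) (a ≫ w) := by
    rw [← hcw]
    exact sqR.map (yon S)
  have hst : (yon S).map s ≫ a = (yon S).map t ≫ a := by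
    rw [← cancel_mono w, Category.assoc, Category.assoc]
    exact sq1.w
  have sq2 : IsPullback ((yon S).map s) ((yon S).map t) a a :=
    ⟨⟨hst⟩, ⟨PullbackCone.IsLimit.mk _
      (fun d => sq1.lift d.fst d.snd (by rw [← Category.assoc, d.condition, Category.assoc]))
      (fun d => sq1.lift_fst _ _ _) (fun d => sq1.lift_snd _ _ _)
      (fun d m h1 h2 => sq1.hom_ext (by rw [h1, sq1.lift_fst]) (by rw [h2, sq1.lift_snd]))⟩⟩
  obtain ⟨Z₀, q₀, hZ₀, hfe⟩ := K613.exists_fe s.left t.left
  obtain ⟨k₀, hk₀⟩ := hfe.exists_desc c.left (by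
    rw [← Over.comp_left, ← Over.comp_left, sqR.w])
  let Z : Over S := Over.mk (k₀ ≫ U.hom)
  let q : V ⟶ Z := Over.homMk q₀ (by
    change q₀ ≫ k₀ ≫ U.hom = V.hom
    rw [← Category.assoc, hk₀, Over.w])
  let k : Z ⟶ U := Over.homMk k₀ rfl
  have hqk : q ≫ k = c := Over.OverMorphism.ext hk₀
  have hsq : s ≫ q = t ≫ q := Over.OverMorphism.ext hfe.w
  have hls : Sheaf.IsLocallySurjective a := K594.Basic.isLocallySurjective_of_etale a hae has
  obtain ⟨hcol⟩ := K594.Quot.isColimit_of_kernelPair a sq2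
  obtain ⟨z, hz⟩ := Cofork.IsColimit.desc' hcol ((yon S).map q) (by
    rw [← Functor.map_comp, ← Functor.map_comp, hsq])
  have haz : a ≫ z = (yon S).map q := hz
  have hzk : z ≫ (yon S).map k = w := by
    have : Epi a := (Sheaf.isLocallySurjective_iff_epi a).1 inferInstance
    rw [← cancel_epi a, ← Category.assoc, haz, ← Functor.map_comp, hqk, hcw]
  have hzm : Mono z := by
    have : Mono (z ≫ (yon S).map k) := by rw [hzk]; infer_instance
    exact mono_of_mono z ((yon S).map k)
  have hqc : AlgSp.IsQuasiCompactMor z := by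
    have h1 : RepWith @QuasiCompact ((yon S).map q) := (repWith_yon_map_iff @QuasiCompact q).2 (by
      change QuasiCompact q₀
      have : IsAffineHom q₀ := inferInstance
      infer_instance)
    have h2 : AlgSp.IsQuasiCompactMor ((yon S).map q) := K596.QC.isQuasiCompactMor_of_repWith h1
    exact Groth.Agent.S9915.result (X := ⟨_, IsAlgSpace.yon_obj V⟩) (Y := ⟨W, hW⟩) (Z := ⟨_, IsAlgSpace.yon_obj Z⟩)
      (ObjectProperty.homMk a) (ObjectProperty.homMk ((yon S).map q)) (ObjectProperty.homMk z)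
      (by ext1; exact haz) (K609.Points.surjective_map_of_repWith_surjective has) h2
  have hP := nonempty_pres_of_mono hW (IsAlgSpace.yon_obj Z) z hqc (η := eta0 Z) hZ₀
  have h0 := bijective_unitSect_eta0 (z := z) hfe haz hst hae has hV
  have h1 := bijective_unitSect hex hZ₀ hP h0
  have h2 : IsIso z := isIso_of_injective hW hqc fun η => (h1 η).1
  exact ⟨Z, hZ₀, ⟨asIso z⟩⟩

end K894.SerreMono
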